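/-
Two generators from a torus element and a translate of a unipotent element: the abstract part.
-/
import Mathlib.GroupTheory.PGroup
import Mathlib.GroupTheory.Nilpotent
import Mathlib.GroupTheory.Frattini
import Mathlib.GroupTheory.SpecificGroups.Cyclic
import Mathlib.Algebra.Polynomial.AlgebraMap
import Mathlib.Algebra.Polynomial.Eval.SMul
import Mathlib.RingTheory.Ideal.Maps
import Mathlib.FieldTheory.Finite.Basic

namespace CfsgLib.TwoGenBN

universe u

variable {G : Type*} [Group G]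

/-- A subgroup of a finite `p`-group killed by no nontrivial map to an abelian group of order `p`
is everything. -/
theorem le_of_kill {p : ℕ} [Fact p.Prime] {P S : Subgroup G} [Finite P] (hP : IsPGroup p P) (hSP : S ≤ P)
    (h : ∀ M : Subgroup P, M.Normal → M.index = p → S.subgroupOf P ≤ M → False) : P ≤ S := by
  rw [← Subgroup.subgroupOf_eq_top]
  by_contra hne
  obtain he | ⟨M, hM, hle⟩ := eq_top_or_exists_le_coatom (S.subgroupOf P)
  · exact hne he
  haveI : M.Normal := Subgroup.NormalizerCondition.normal_of_coatom M (Group.normalizerCondition_of_isNilpotent (h := hP.isNilpotent)) hM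
  refine h M ‹_› ?_ hle
  haveI : Nontrivial (P ⧸ M) := by
    rw [← Finite.one_lt_card_iff_nontrivial, ← Subgroup.index_eq_card]
    exact Nat.lt_of_le_of_ne (Nat.one_le_iff_ne_zero.mpr Subgroup.index_ne_zero_of_finite)
      fun e => hM.1 (Subgroup.index_eq_one.mp e.symm)
  obtain ⟨z, hz⟩ := exists_prime_orderOf_dvd_card' (G := P ⧸ M) p ((hP.to_quotient M).card_eq_or_dvd.resolve_left
    (Finite.one_lt_card).ne')
  have htop : (Subgroup.zpowers z).comap (QuotientGroup.mk' M) = ⊤ := by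
    refine hM.2 _ (lt_of_le_not_ge ?_ ?_)
    · intro x hx
      rw [Subgroup.mem_comap, QuotientGroup.mk'_apply, (QuotientGroup.eq_one_iff x).mpr hx]
      exact one_mem _
    · intro hge
      obtain ⟨x, rfl⟩ := QuotientGroup.mk'_surjective M z
      have := hge (show x ∈ _ from Subgroup.mem_zpowers (QuotientGroup.mk' M x))
      rw [QuotientGroup.mk'_apply, (QuotientGroup.eq_one_iff x).mpr this, orderOf_one] at hz
      exact (Fact.out : p.Prime).one_lt.ne hz
  have hall : Subgroup.zpowers z = ⊤ := by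
    refine Subgroup.comap_injective (QuotientGroup.mk'_surjective M) ?_
    rw [htop, Subgroup.comap_top]
  rw [Subgroup.index_eq_card, ← Subgroup.card_top, ← hall, Nat.card_zpowers, hz]

/-- The same, with the maps to abelian groups of exponent `p`. -/
theorem le_of_hom {G : Type*} [Group G] {p : ℕ} [Fact p.Prime] {P S : Subgroup G} [Finite P] (hP : IsPGroup p P)
    (hSP : S ≤ P)
    (h : ∀ M : Subgroup P, ∀ [M.Normal], (∀ x y : P ⧸ M, x * y = y * x) → (∀ x : P ⧸ M, x ^ p = 1) →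
      S.subgroupOf P ≤ M → ∀ g : P, g ∈ M) : P ≤ S := by
  refine le_of_kill hP hSP fun M hM hi hle => ?_
  haveI := hM
  have hcard : Nat.card (P ⧸ M) = p := by rw [← Subgroup.index_eq_card]; exact hi
  haveI : IsCyclic (P ⧸ M) := isCyclic_of_prime_card hcard
  have hall := h M (fun x y => (IsCyclic.commGroup (α := P ⧸ M)).mul_comm x y)
    (fun x => by rw [← hcard]; exact pow_card_eq_one') hle
  rw [show M = ⊤ from (Subgroup.eq_top_iff' M).mpr hall, Subgroup.index_top] at hi
  exact (Fact.out : p.Prime).one_lt.ne hi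

/-- Splitting a product of commuting elements of coprime orders. -/
theorem split_mem {M : Subgroup G} {h y : G} (hc : Commute h y) {a b : ℕ} (ha : h ^ a = 1) (hb : y ^ b = 1)
    (hab : Nat.Coprime a b) (hM : h * y ∈ M) : h ∈ M ∧ y ∈ M := by
  have key : ∀ {h y : G} {a b : ℕ}, Commute h y → h ^ a = 1 → y ^ b = 1 → Nat.Coprime a b → h * y ∈ M → h ∈ M := by
    intro h y a b hc ha hb hab hM
    have h1 : h ^ b ∈ M := by
      have := pow_mem hM b
      rwa [hc.mul_pow, hb, mul_one] at this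
    have e : h ^ ((Nat.gcd a b : ℕ) : ℤ) ∈ M := by
      rw [Nat.gcd_eq_gcd_ab, zpow_add, zpow_mul, zpow_mul, zpow_natCast, zpow_natCast, ha, one_zpow, one_mul]
      exact zpow_mem h1 _
    rwa [hab.gcd_eq_one, Nat.cast_one, zpow_one] at e
  exact ⟨key hc ha hb hab hM, key hc.symm hb ha hab.symm (hc.eq ▸ hM)⟩

/-- The main step: the translate `n * x` and the torus element recover `n` and the unipotent group. -/
theorem core {M P : Subgroup G} {h n x : G} (hh : h ∈ M) (hb : n * x ∈ M)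
    (hn : n * h * n⁻¹ ∈ Subgroup.zpowers h) (hx : x ∈ P)
    (hS : P ≤ Subgroup.closure {g | ∃ k : ℕ, g = x * h ^ k * x⁻¹ * (h ^ k)⁻¹}) : n ∈ M ∧ P ≤ M := by
  have hle : P ≤ M.comap (MulAut.conj x⁻¹).toMonoidHom := hS.trans ((Subgroup.closure_le _).mpr (by
    rintro _ ⟨j, rfl⟩
    have hz : n * h ^ j * n⁻¹ ∈ M := by
      have e : n * h ^ j * n⁻¹ = (n * h * n⁻¹) ^ j := (conj_pow ..).symm
      rw [e]
      exact pow_mem ((Subgroup.zpowers_le.mpr hh) hn) j
    have h2 : n * x * h ^ j * (n * x)⁻¹ * (n * h ^ j * n⁻¹)⁻¹ ∈ M :=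
      mul_mem (mul_mem (mul_mem hb (pow_mem hh j)) (inv_mem hb)) (inv_mem hz)
    have h3 := mul_mem (mul_mem (inv_mem hb) h2) hb
    rw [SetLike.mem_coe, Subgroup.mem_comap]
    convert h3 using 1
    simp only [MulEquiv.coe_toMonoidHom, MulAut.conj_apply]
    group))
  have hxM : x ∈ M := by
    simpa using hle hx
  have hP : P ≤ M := fun g hg => by
    have h1 := hle hg
    simp only [Subgroup.mem_comap, MulEquiv.coe_toMonoidHom, MulAut.conj_apply, inv_inv] at h1
    have h2 := mul_mem (mul_mem hxM h1) (inv_mem hxM)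
    convert h2 using 1
    group
  refine ⟨?_, hP⟩
  have := mul_mem hb (inv_mem hxM)
  rwa [mul_inv_cancel_right] at this

section Fields

open Polynomial

/-- Additive maps out of generated fields annihilating all powers of pairwise separated elements vanish. -/
theorem eq_zero_of_sum {ι : Type*} [Fintype ι] {R : ι → Type*} [∀ a, Field (R a)] {C : Type*} [AddCommGroup C]
    (l : ∀ a, R a) (hgen : ∀ a (r : R a), ∃ P : ℤ[X], aeval (l a) P = r)
    (hsep : ∀ a b, a ≠ b → ∃ P : ℤ[X], aeval (l b) P = 0 ∧ aeval (l a) P ≠ 0)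
    (c : ∀ a, R a) (hc : ∀ a, c a ≠ 0) (f : ∀ a, R a →+ C) (h : ∀ k : ℕ, ∑ a, f a (c a * l a ^ k) = 0) :
    ∀ a, f a = 0 := by
  classical
  have hP : ∀ P : ℤ[X], ∑ a, f a (c a * aeval (l a) P) = 0 := by
    intro P
    induction P using Polynomial.induction_on' with
    | add P Q hP hQ => simp only [map_add, mul_add, Finset.sum_add_distrib, hP, hQ, add_zero]
    | monomial k z =>
      simp only [aeval_monomial]
      simp only [show ∀ a, c a * ((algebraMap ℤ (R a)) z * l a ^ k) = z • (c a * l a ^ k) from fun a => by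
        rw [zsmul_eq_mul, eq_intCast]; ring, map_zsmul, ← Finset.smul_sum, h k, smul_zero]
  intro a
  choose P hP1 hP2 using fun b (hb : a ≠ b) => hsep a b hb
  let Q : ℤ[X] := ∏ b : {b // a ≠ b}, P b.1 b.2
  have hQ : aeval (l a) Q ≠ 0 := by
    rw [map_prod, Finset.prod_ne_zero_iff]
    exact fun b _ => hP2 b.1 b.2
  ext r
  obtain ⟨T, hT⟩ := hgen a (r / (c a * aeval (l a) Q))
  have h1 := hP (Q * T)
  rw [Finset.sum_eq_single a (fun b _ hb => by
    rw [aeval_mul, show aeval (l b) Q = 0 by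
      rw [map_prod]
      exact Finset.prod_eq_zero (Finset.mem_univ ⟨b, Ne.symm hb⟩) (hP1 b (Ne.symm hb)), zero_mul, mul_zero,
      map_zero]) (by simp)] at h1
  rw [aeval_mul, hT, ← mul_assoc, mul_div_cancel₀ _ (mul_ne_zero (hc a) hQ)] at h1
  exact h1

/-- Either two elements are separated by a polynomial or a homomorphism carries one to the other. -/
theorem sep_or_hom {R S : Type*} [Field R] [Field S] (a : R) (b : S)
    (hgen : ∀ r : R, ∃ P : ℤ[X], aeval a P = r) :
    (∃ P : ℤ[X], aeval a P = 0 ∧ aeval b P ≠ 0) ∨ ∃ ψ : R →+* S, ψ a = b := by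
  by_cases h : ∃ P : ℤ[X], aeval a P = 0 ∧ aeval b P ≠ 0
  · exact Or.inl h
  push Not at h
  have hs : Function.Surjective (aeval a : ℤ[X] →ₐ[ℤ] R).toRingHom := hgen
  refine Or.inr ⟨RingHom.liftOfSurjective (aeval a : ℤ[X] →ₐ[ℤ] R).toRingHom hs
    ⟨(aeval b : ℤ[X] →ₐ[ℤ] S).toRingHom, fun P hP => h P hP⟩, ?_⟩
  have := RingHom.liftOfRightInverse_comp_apply (aeval a : ℤ[X] →ₐ[ℤ] R).toRingHom _
    (Function.rightInverse_surjInv hs) ⟨(aeval b : ℤ[X] →ₐ[ℤ] S).toRingHom, fun P hP => h P hP⟩ (X : ℤ[X])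
  simpa using this

/-- A generator of the unit group generates the field. -/
theorem gen_of_units {R : Type*} [Field R] {g : Rˣ} [Finite R] (hg : ∀ u, u ∈ Subgroup.zpowers g) (r : R) :
    ∃ P : ℤ[X], aeval (g : R) P = r := by
  rcases eq_or_ne r 0 with rfl | hr
  · exact ⟨0, map_zero _⟩
  obtain ⟨k, hk⟩ := (isOfFinOrder_of_finite g).mem_powers_iff_mem_zpowers.2 (hg (Units.mk0 r hr))
  exact ⟨X ^ k, by rw [map_pow, aeval_X, ← Units.val_pow_eq_pow_val, show g ^ k = _ from hk, Units.val_mk0]⟩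

/-- The unipotent part: commutators with a torus element generate the group of the coordinate families. -/
theorem families_mem {G : Type u} [Group G] [Finite G] {p : ℕ} [Fact p.Prime] {ι : Type*} [Fintype ι]
    {R : ι → Type*} [∀ a, Field (R a)] (X : ∀ a, R a → G)
    (hp : IsPGroup p (Subgroup.closure (⋃ a, Set.range (X a))))
    (hadd : ∀ {C : Type u} [CommGroup C] (ψ : Subgroup.closure (⋃ a, Set.range (X a)) →* C),
      (∀ c : C, c ^ p = 1) → ∀ a s t,
        ψ ⟨X a (s + t), Subgroup.subset_closure (Set.mem_iUnion.mpr ⟨a, _, rfl⟩)⟩ =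
          ψ ⟨X a s, Subgroup.subset_closure (Set.mem_iUnion.mpr ⟨a, _, rfl⟩)⟩ *
          ψ ⟨X a t, Subgroup.subset_closure (Set.mem_iUnion.mpr ⟨a, _, rfl⟩)⟩)
    (l : ∀ a, R a) (hgen : ∀ a (r : R a), ∃ P : ℤ[X], aeval (l a) P = r)
    (hsep : ∀ a b, a ≠ b → ∃ P : ℤ[X], aeval (l b) P = 0 ∧ aeval (l a) P ≠ 0) (hl : ∀ a, l a ≠ 1)
    {h : G} (hconj : ∀ a t, h * X a t * h⁻¹ = X a (l a * t))
    {M : Subgroup G} (hh : h ∈ M) {n : G} (hb : n * ((Finset.univ : Finset ι).toList.map fun a => X a 1).prod ∈ M)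
    (hn : n * h * n⁻¹ ∈ Subgroup.zpowers h) : n ∈ M ∧ ∀ a t, X a t ∈ M := by
  classical
  set P := Subgroup.closure (⋃ a, Set.range (X a)) with hP
  have hmem : ∀ a t, X a t ∈ P := fun a t => Subgroup.subset_closure (Set.mem_iUnion.mpr ⟨a, _, rfl⟩)
  set x := ((Finset.univ : Finset ι).toList.map fun a => X a 1).prod with hx
  have hxP : ∀ (L : List ι) (t : ∀ a, R a), (L.map fun a => X a (t a)).prod ∈ P := fun L t =>
    Subgroup.list_prod_mem _ fun y hy => by
      obtain ⟨a, -, rfl⟩ := List.mem_map.mp hy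
      exact hmem _ _
  have hk : ∀ (k : ℕ) a t, h ^ k * X a t * (h ^ k)⁻¹ = X a (l a ^ k * t) := by
    intro k
    induction k with
    | zero => intro a t; simp
    | succ k ih =>
      intro a t
      rw [pow_succ', show h * h ^ k * X a t * (h * h ^ k)⁻¹ = h * (h ^ k * X a t * (h ^ k)⁻¹) * h⁻¹ by group, ih,
        hconj, pow_succ', mul_assoc]
  have hconjx : ∀ k : ℕ, h ^ k * x * (h ^ k)⁻¹ =
      ((Finset.univ : Finset ι).toList.map fun a => X a (l a ^ k)).prod := fun k => by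
    rw [hx, show h ^ k * ((Finset.univ : Finset ι).toList.map fun a => X a 1).prod * (h ^ k)⁻¹ =
      MulAut.conj (h ^ k) ((Finset.univ : Finset ι).toList.map fun a => X a 1).prod from (MulAut.conj_apply _ _).symm,
      map_list_prod, List.map_map]
    refine congrArg List.prod (List.map_congr_left fun a _ => ?_)
    rw [Function.comp_apply, MulAut.conj_apply, hk, mul_one]
  have hc : ∀ k : ℕ, x * h ^ k * x⁻¹ * (h ^ k)⁻¹ = x * (h ^ k * x * (h ^ k)⁻¹)⁻¹ := fun k => by group
  refine (fun H => ⟨H.1, fun a t => H.2 (hmem a t)⟩)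
    (core (P := P) hh hb hn (hxP _ (fun _ => 1)) (le_of_hom hp ?_ ?_))
  · rw [Subgroup.closure_le]
    rintro _ ⟨k, rfl⟩
    rw [SetLike.mem_coe, hc, hconjx]
    exact mul_mem (hxP _ (fun _ => 1)) (inv_mem (hxP _ _))
  intro N _ hcomm hexp hle
  letI : CommGroup (↥P ⧸ N) := { (inferInstance : Group (↥P ⧸ N)) with mul_comm := hcomm }
  let ψ : ↥P →* ↥P ⧸ N := QuotientGroup.mk' N
  let F : ∀ a, R a →+ Additive (↥P ⧸ N) := fun a =>
    AddMonoidHom.mk' (fun t => Additive.ofMul (ψ ⟨X a t, hmem a t⟩)) fun s t => by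
      rw [← ofMul_mul]
      exact congrArg Additive.ofMul (hadd ψ hexp a s t)
  have hsum : ∀ t : ∀ a, R a, ∑ a, F a (t a) =
      Additive.ofMul (ψ ⟨_, hxP (Finset.univ : Finset ι).toList t⟩) := fun t => by
    have e : (⟨_, hxP (Finset.univ : Finset ι).toList t⟩ : ↥P) =
        ((Finset.univ : Finset ι).toList.map fun a => (⟨X a (t a), hmem a (t a)⟩ : ↥P)).prod :=
      Subtype.ext (by
        rw [show (((Finset.univ : Finset ι).toList.map fun a => (⟨X a (t a), hmem a (t a)⟩ : ↥P)).prod : G) =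
          P.subtype ((Finset.univ : Finset ι).toList.map fun a => (⟨X a (t a), hmem a (t a)⟩ : ↥P)).prod from rfl,
          map_list_prod, List.map_map]
        rfl)
    rw [e, map_list_prod, List.map_map, Finset.prod_map_toList, ofMul_prod]
    rfl
  have h0 : ∀ k : ℕ, ∑ a, F a (l a ^ k) = ∑ a, F a 1 := fun k => by
    rw [hsum, hsum]
    have hy : x * h ^ k * x⁻¹ * (h ^ k)⁻¹ ∈ P := by
      rw [hc, hconjx]; exact mul_mem (hxP _ (fun _ => 1)) (inv_mem (hxP _ _))
    have h1 : ψ ⟨_, hy⟩ = 1 := (QuotientGroup.eq_one_iff _).mpr (hle (Subgroup.subset_closure ⟨k, rfl⟩))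
    have e : (⟨_, hy⟩ : ↥P) = ⟨_, hxP _ fun _ => 1⟩ * (⟨_, hxP _ fun a => l a ^ k⟩)⁻¹ := Subtype.ext (by
      show x * h ^ k * x⁻¹ * (h ^ k)⁻¹ = _
      exact (hc k).trans (by rw [hconjx]; rfl))
    rw [e, map_mul, map_inv, mul_inv_eq_one] at h1
    exact congrArg Additive.ofMul h1.symm
  have hF : ∀ a, F a = 0 := eq_zero_of_sum l hgen hsep (fun a => l a - 1) (fun a => sub_ne_zero.mpr (hl a)) F
    fun k => by
      simp only [sub_mul, one_mul, map_sub, Finset.sum_sub_distrib]
      simp only [← pow_succ']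
      rw [h0, h0, sub_self]
  rintro ⟨g, hg⟩
  rw [← QuotientGroup.eq_one_iff]
  induction hg using Subgroup.closure_induction with
  | mem y hy =>
    obtain ⟨a, t, rfl⟩ := Set.mem_iUnion.mp hy
    exact Additive.ofMul.injective (DFunLike.congr_fun (hF a) t)
  | one => exact map_one ψ
  | mul a b ha hb ha' hb' => exact (map_mul ψ ⟨a, ha⟩ ⟨b, hb⟩).trans (by rw [show ψ ⟨a, ha⟩ = 1 from ha', show ψ ⟨b, hb⟩ = 1 from hb', mul_one])
  | inv a ha ha' => exact (map_inv ψ ⟨a, ha⟩).trans (by rw [show ψ ⟨a, ha⟩ = 1 from ha', inv_one])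

end Fields

end CfsgLib.TwoGenBN
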