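/-
Two generators of a twisted group: the longest element and the reduction to the positive root subgroups.
-/
import Cfsg.Agent.Lib.Chev.Twist.AutGen
import Cfsg.Agent.Lib.Chev.Twist.Coxeter
import Cfsg.Agent.Lib.TwoGenBN.Core

namespace CfsgLib.Chev

open Cfsg.Lie Matrix

set_option linter.dupNamespace false
set_option linter.unusedSectionVars false

variable {D : ChevalleyDatum}

namespace Chev

/-- The iterated word of orbit reflections on root indices. -/
def cycIter (T : SymData) (L : List ℕ) : ℕ → ℕ → ℕ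
  | 0, r => r
  | k + 1, r => L.foldr (fun a x => T.wEval a x) (cycIter T L k r)

/-- The test that an iterated word sends each simple root to the negative of a simple root. -/
def longCheck (D : ChevalleyDatum) (T : SymData) (L : List ℕ) (k : ℕ) (σ : ℕ → ℕ) : Bool :=
  (List.range D.rank).all fun i => Nat.beq (cycIter T L k (D.simple i)) (D.neg (D.simple (σ i)))

theorem SymOK.cycIter_eq {Φ : Chev D} {T' : SymData} {p : ℕ} (h : SymOK (D := D) T' p)
    (L : List (Fin (h.sym Φ).m)) (k : ℕ) (r : Fin D.nroots) :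
    cycIter T' (L.map Fin.val) k r.val = ((((L.map (h.sym Φ).w).prod) ^ k) r).val := by
  have hfold : ∀ (L : List (Fin (h.sym Φ).m)) (r : Fin D.nroots),
      (L.map Fin.val).foldr (fun a x => T'.wEval a x) r.val = ((L.map (h.sym Φ).w).prod r).val := by
    intro L r
    induction L with
    | nil => rfl
    | cons a L ih =>
      rw [List.map_cons, List.foldr_cons, ih, h.wEval_eq a.isLt, List.map_cons, List.prod_cons]
      rfl
  induction k with
  | zero => rfl
  | succ k ih => rw [cycIter, ih, hfold, pow_succ']; rfl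

theorem SymOK.exists_longWord {Φ : Chev D} {T' : SymData} {p : ℕ} (h : SymOK (D := D) T' p)
    (L : List (Fin (h.sym Φ).m)) (k : ℕ) (σ : Fin D.rank → Fin D.rank) (σ' : ℕ → ℕ)
    (hσ : ∀ i, σ' i.val = (σ i).val) (hc : longCheck D T' (L.map Fin.val) k σ' = true) :
    ∃ π ∈ (h.sym Φ).W1, ∀ i, π (Φ.p i) = (Φ.p (σ i)).rev := by
  set π := (L.map (h.sym Φ).w).prod ^ k with hπ
  have hmem : π ∈ (h.sym Φ).W1 := pow_mem (Subgroup.list_prod_mem _ fun x hx => by
    obtain ⟨a, -, rfl⟩ := List.mem_map.mp hx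
    exact (h.sym Φ).w_mem_W1 a) k
  refine ⟨π, hmem, fun i => Fin.ext ?_⟩
  have hfold : ∀ (L : List (Fin (h.sym Φ).m)) (r : Fin D.nroots),
      (L.map Fin.val).foldr (fun a x => T'.wEval a x) r.val = ((L.map (h.sym Φ).w).prod r).val := by
    intro L r
    induction L with
    | nil => rfl
    | cons a L ih =>
      rw [List.map_cons, List.foldr_cons, ih, h.wEval_eq a.isLt, List.map_cons, List.prod_cons]
      rfl
  have hit : ∀ k (r : Fin D.nroots),
      cycIter T' (L.map Fin.val) k r.val = ((((L.map (h.sym Φ).w).prod) ^ k) r).val := by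
    intro k r
    induction k with
    | zero => rfl
    | succ k ih => rw [cycIter, ih, hfold, pow_succ']; rfl
  simp only [longCheck, List.all_eq_true, List.mem_range, Nat.beq_eq] at hc
  have := hc i.val i.isLt
  rw [hσ, Φ.simple_val, Φ.simple_val, hit, show D.neg (Φ.p (σ i)).val = (Φ.p (σ i)).rev.val from Φ.negIdx_eq _]
    at this
  exact this

namespace Tw

variable {Φ : Chev D} {S : Φ.Sym} {F : Type*} [Field F] {T : Tw S F} {G1 : Subgroup (GL D.Idx F)}

theorem mono_conj_torus {n : GL D.Idx F} {π : Equiv.Perm (Fin D.nroots)} (hm : Φ.Mono n π)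
    (c c' : Fin D.rank → Fˣ) (h : n * Φ.toAlg.torus c * n⁻¹ = Φ.toAlg.torus c') (s : Fin D.nroots) :
    Φ.toSys.chi c' (π s) = Φ.toSys.chi c s := by
  obtain ⟨a, ha, e, -⟩ := hm.1 s
  have h1 := e (t := Φ.toSys.chi c s)
  have h2 : n * (Φ.toAlg.torus c * Φ.toAlg.xg s 1 * (Φ.toAlg.torus c)⁻¹) * n⁻¹ =
      Φ.toAlg.torus c' * (n * Φ.toAlg.xg s 1 * n⁻¹) * (Φ.toAlg.torus c')⁻¹ := by rw [← h]; group
  rw [Φ.toAlg.torus_xg, mul_inv_cancel_right, mul_one, h1, e, Φ.toAlg.torus_xg, mul_inv_cancel_right] at h2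
  have := Φ.toAlg.xg_injective _ h2
  rw [mul_one, mul_comm] at this
  exact Units.ext (mul_right_cancel₀ ha this.symm)

/-- The longest element of a twisted group and its action on the torus. -/
theorem Gen.exists_long (h : T.Gen G1) {π : Equiv.Perm (Fin D.nroots)} (hπ : π ∈ S.W1)
    (σ : Fin D.rank → Fin D.rank) (hσ : ∀ i, π (Φ.p i) = (Φ.p (σ i)).rev) :
    ∃ n : G1, (n : GL D.Idx F) ∈ D.monomialSubgroup F ∧ Φ.Mono (n : GL D.Idx F) π ∧
      (∀ r, Φ.toTables.Pos r ↔ ¬ Φ.toTables.Pos (π r)) ∧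
      ∀ (g : G1) (c : Fin D.rank → Fˣ), (g : GL D.Idx F) = Φ.toAlg.torus c →
        (g : GL D.Idx F) ∈ D.diagonalSubgroup F → ∀ c' : Fin D.rank → Fˣ, (∀ j, c' (σ j) = (c j)⁻¹) →
        ((n * g * n⁻¹ : G1) : GL D.Idx F) = Φ.toAlg.torus c' := by
  obtain ⟨n, hn1, hn2, hn3⟩ := h.exists_nW1 hπ
  have hW := (S.mem_W1.mp hπ).1
  refine ⟨⟨n, hn1⟩, hn2, hn3, Φ.pos_flip (Φ.W_le_WL hW) fun r hr => Φ.not_pos_of_comb hW hr fun k _ => ?_,
    fun g c hg hgH c' hc' => ?_⟩
  · rw [hσ, Φ.pos_rev_iff, not_not]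
    exact Φ.p_pos _
  · have hH : n * (g : GL D.Idx F) * n⁻¹ ∈ D.diagonalSubgroup F := Φ.H_conj_mem hn2 hgH
    obtain ⟨c'', hc''⟩ := Φ.exists_torus_of_mem_H hH
    rw [Subgroup.coe_mul, Subgroup.coe_mul, Subgroup.coe_inv]
    refine hc''.trans (congrArg _ (funext fun i => ?_))
    have hinj : Function.Injective σ := fun a b e => by
      have h1 : π (Φ.p a) = π (Φ.p b) := by rw [hσ, hσ, e]
      have h2 := π.injective h1
      by_contra hne
      have h3 := Φ.V_p a a
      rw [h2, Φ.V_p, if_neg (Ne.symm hne)] at h3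
      rw [if_pos rfl] at h3
      exact zero_ne_one h3
    obtain ⟨j, rfl⟩ := (Finite.injective_iff_surjective.mp hinj) i
    rw [hc']
    have := mono_conj_torus hn3 c c'' (by rw [← hg]; exact hc'') (Φ.p j)
    rw [hσ, Φ.toSys.chi_neg, Φ.toSys.chi_simple, Φ.toSys.chi_simple] at this
    exact inv_eq_iff_eq_inv.mp this

/-- A subgroup containing the positive root subgroups and the longest element is everything. -/
theorem Gen.top_of_pos {M : Subgroup G1} {gens : Set (GL D.Idx F)}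
    (htw : G1 = Subgroup.closure gens)
    (hgens : ∀ g ∈ gens, ∃ a, g ∈ Φ.US F (S.PJ a) ∨ g ∈ Φ.US F (fun r => S.PJ a r.rev))
    {n : G1} {π : Equiv.Perm (Fin D.nroots)} (hπ : π ∈ S.W1) (hn : (n : GL D.Idx F) ∈ D.monomialSubgroup F)
    (hm : Φ.Mono (n : GL D.Idx F) π) (hflip : ∀ r, Φ.toTables.Pos r ↔ ¬ Φ.toTables.Pos (π r)) (hnM : n ∈ M)
    (hP : ∀ a x, rootP S a x → x ∈ M) : M = ⊤ := by
  choose flip hf using fun a => exists_flip_orbit hπ hflip a
  have hinj : Function.Injective flip := fun a b e => by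
    by_contra hne
    obtain ⟨i, hi⟩ := S.nonempty a
    have h1 := (hf a _).mp (S.p_mem_PJ hi)
    rw [e, ← hf b] at h1
    exact hne (S.disj a b i hi (Φ.sub_p.mp h1.2))
  have hle : G1 ≤ M.map G1.subtype := by
    conv_lhs => rw [htw]
    rw [Subgroup.closure_le]
    intro g hg
    have hg1 : g ∈ G1 := by rw [htw]; exact Subgroup.subset_closure hg
    obtain ⟨a, h1 | h1⟩ := hgens g hg
    · exact ⟨⟨g, hg1⟩, hP a _ h1, rfl⟩
    · obtain ⟨b, rfl⟩ := (Finite.injective_iff_surjective.mp hinj) a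
      refine ⟨⟨g, hg1⟩, ?_, rfl⟩
      have h2 : rootP S b (n⁻¹ * ⟨g, hg1⟩ * n) := by
        refine (Φ.conj_US_iff hn hm (T := fun r => S.PJ (flip b) r.rev) (hf b) _).mpr ?_
        simp only [Subgroup.coe_mul, Subgroup.coe_inv]
        convert h1 using 1
        group
      have := mul_mem (mul_mem hnM (hP b _ h2)) (inv_mem hnM)
      simpa [mul_assoc] using this
  rw [eq_top_iff]
  intro x _
  obtain ⟨y, hy, e⟩ := hle x.2
  rwa [show x = y from Subtype.ext e.symm]

/-- A monomial element carrying an orbit into another one carries the root subgroups accordingly. -/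
theorem rootP_map {n : G1} {π : Equiv.Perm (Fin D.nroots)} (hm : Φ.Mono (n : GL D.Idx F) π) {a b : Fin S.m}
    (hmap : ∀ r, S.PJ a r → S.PJ b (π r)) {x : G1} (hx : rootP S a x) : rootP S b (n * x * n⁻¹) := by
  show _ ∈ Φ.US F _
  simp only [Subgroup.coe_mul, Subgroup.coe_inv]
  exact Φ.map_US_le hm hmap _ hx

theorem mono_pow {n : G1} {π : Equiv.Perm (Fin D.nroots)} (hm : Φ.Mono (n : GL D.Idx F) π) (k : ℕ) :
    Φ.Mono ((n ^ k : G1) : GL D.Idx F) (π ^ k) := by
  induction k with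
  | zero => rw [pow_zero, pow_zero, Subgroup.coe_one]; exact Mono.one Φ
  | succ k ih => rw [pow_succ, pow_succ, Subgroup.coe_mul]; exact Mono.mul Φ ih hm

/-- The longest element carries the negative root subgroup of a stable orbit back to the positive one. -/
theorem rootP_of_long {n : G1} {π : Equiv.Perm (Fin D.nroots)} (hπ : π ∈ S.W1)
    (hn : (n : GL D.Idx F) ∈ D.monomialSubgroup F) (hm : Φ.Mono (n : GL D.Idx F) π)
    (hflip : ∀ r, Φ.toTables.Pos r ↔ ¬ Φ.toTables.Pos (π r)) {σ : Fin D.rank → Fin D.rank}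
    (hσ : ∀ i, π (Φ.p i) = (Φ.p (σ i)).rev) {a : Fin S.m} (hst : ∀ i ∈ S.J a, σ i ∈ S.J a) {y : G1}
    (hy : rootN S a y) : rootP S a (n⁻¹ * y * n) := by
  obtain ⟨b, hb⟩ := exists_flip_orbit hπ hflip a
  obtain rfl : b = a := by
    obtain ⟨i, hi⟩ := S.nonempty a
    have h1 := (hb _).mp (S.p_mem_PJ hi)
    rw [hσ, Fin.rev_rev] at h1
    exact S.disj b a _ (Φ.sub_p.mp h1.2) (hst i hi)
  refine (Φ.conj_US_iff hn hm (T := fun r => S.PJ b r.rev) hb _).mpr ?_
  simp only [Subgroup.coe_mul, Subgroup.coe_inv]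
  rw [show (n : GL D.Idx F) * ((n : GL D.Idx F)⁻¹ * (y : GL D.Idx F) * n) * (n : GL D.Idx F)⁻¹ = y by group]
  exact hy

end Tw

end Chev

end CfsgLib.Chev
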