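/-
Two generators of ³D₄.
-/
import Cfsg.Agent.Lib.TwoGenBN.Twisted
import Cfsg.Agent.Lib.Chev.Twist.AutD4

namespace CfsgLib.Chev.T3D4

open Cfsg.Lie Matrix Chev

set_option linter.dupNamespace false
set_option linter.unusedSectionVars false
set_option maxRecDepth 100000
set_option maxHeartbeats 1000000

variable {K : Type*} [Field K] [Fintype K] {q : ℕ} (hq : IsPrimePow q) (hK : Fintype.card K = q ^ 3)

include hq hK in
theorem outer_mem {M : Subgroup (twistedD4 K q)} (hX : ∀ t : K, X1 t ∈ M) (hY : ∀ t : K, Y1 t ∈ M)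
    (g : twistedD4 K q) (u : Kˣ)
    (hg : (g : GL Cfsg.Lie.chevD4.Idx K) = Tw.tor (Φ := CfsgLib.Chev.chevD4) (outer q u)) : g ∈ M := by
  set Φ := CfsgLib.Chev.chevD4
  have e : outer q u = Pi.mulSingle (ix 0) u * Pi.mulSingle (ix 2) (u ^ q) * Pi.mulSingle (ix 3) ((u ^ q) ^ q) :=
    funext (forall_ix.mpr ⟨by simp [outer, vec4, Pi.mulSingle_apply], by simp [outer, vec4, Pi.mulSingle_apply],
      by simp [outer, vec4, Pi.mulSingle_apply], by simp [outer, vec4, Pi.mulSingle_apply]⟩)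
  have hg' : g = (X1 (q := q) (u : K) * Y1 (-(u : K)⁻¹) * X1 (u : K)) *
      (X1 (((-1 : Kˣ)) : K) * Y1 (-(((-1 : Kˣ)) : K)⁻¹) * X1 (((-1 : Kˣ)) : K)) := by
    refine Subtype.ext ?_
    have hm1 : ∀ n, ((-1 : Kˣ)) ^ q ^ n = -1 := fun n => by
      induction n with
      | zero => simp
      | succ n ih =>
        rw [pow_succ, pow_mul, ih]
        have := (tw hq hK).units_neg_one_pow (ix 0)
        rwa [k_p] at this
    rw [Subgroup.coe_mul, nw3_val hq hK, nw3_val hq hK, hg, e, map_mul, map_mul, Tw.tor_single, Tw.tor_single,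
      Tw.tor_single, Chev.hw, Chev.hw, Chev.hw, ← pow_mul, ← sq,
      mul_three (Tw.orth_nw orb1.oij _ _) (Tw.orth_nw orb1.oil _ _) (Tw.orth_nw orb1.ojl _ _), hm1,
      show ((-1 : Kˣ)) ^ q = -1 by simpa using hm1 1]
  rw [hg']
  exact mul_mem (mul_mem (mul_mem (hX _) (hY _)) (hX _)) (mul_mem (mul_mem (hX _) (hY _)) (hX _))

include hq hK in
theorem short_mem {M : Subgroup (twistedD4 K q)} (hX : ∀ t : K, X1 t ∈ M) (hY : ∀ t : K, Y1 t ∈ M)
    (h1 : X0 hq hK 1 ∈ M) (t : R0 hq hK) : X0 hq hK t ∈ M := by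
  by_cases ht : (t : K) = 0
  · rw [show t = 0 from Subtype.ext ht, (coord0 hq hK).zeroX]
    exact one_mem _
  obtain ⟨u, hu⟩ := norm_surj (v := (Units.mk0 (t : K) ht)⁻¹) (by
    rw [inv_pow, _root_.inv_inj]
    exact Units.ext (by rw [Units.val_pow_eq_pow_val, Units.val_mk0, R0_pow])) hq hK
  obtain ⟨g', hg', hgg⟩ := conj_torus hq hK (outer_stable hq hK u)
  have hval : CfsgLib.Chev.chevD4.coHom K (outer q u) (ix 1) = Units.mk0 (t : K) ht := by
    rw [← CfsgLib.Chev.chevD4.toSys.chi_simple (CfsgLib.Chev.chevD4.coHom K (outer q u)), chi_outer]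
    simp only [ix, List.getD_cons_zero, List.getD_cons_succ, _root_.zpow_neg, _root_.zpow_one]
    rw [← _root_.inv_inj, ← hu, mul_inv, mul_inv, inv_inv, inv_inv, inv_inv, ← pow_mul, pow_add, pow_add, pow_one, sq]
  let c : (R0 hq hK)ˣ := Units.mk0 t (fun e => ht (by rw [e]; rfl))
  have e1 := ((hgg c (by rw [hval]; rfl)).1 1).1
  rw [mul_one] at e1
  have hg := outer_mem hq hK hX hY g' u hg'
  have := mul_mem (mul_mem hg h1) (inv_mem hg)
  rwa [e1] at this

include hq hK in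
theorem two_gen :
    ∃ a b : twistedD4 K q, Subgroup.closure ({a, b} : Set (twistedD4 K q)) = ⊤ := by
  classical
  obtain ⟨p, f, hp, hf, hqp⟩ := id hq
  haveI := Fact.mk hp.nat_prime
  haveI : CharP K p := charP_of_card_eq_prime_pow (f := f * 3) (by rw [hK, ← hqp, ← pow_mul])
  obtain ⟨g, hg⟩ := IsCyclic.exists_generator (α := Kˣ)
  obtain ⟨d, hd, hd1, hd0⟩ := exists_torus hq hK ⟨1, one_pow _⟩ g
  obtain ⟨h, hh', hconj⟩ := conj_torus hq hK hd
  obtain ⟨hc0, hc1⟩ := hconj 1 (by rw [hd1]; rfl)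
  rw [hd0] at hc1
  obtain ⟨π, hπ, hσ⟩ := (symOKD4.exists_longWord (Φ := CfsgLib.Chev.chevD4) [ox 0, ox 1] 3 id id (fun _ => rfl)
    (by decide +kernel))
  obtain ⟨n, hnN, hnM, hflip, hnc⟩ := (gen hq hK).exists_long hπ id hσ
  refine ⟨h * X0 hq hK 1, n * X1 1, ?_⟩
  set M := Subgroup.closure ({h * X0 hq hK 1, n * X1 1} : Set (twistedD4 K q))
  have hab : h * X0 hq hK 1 ∈ M := Subgroup.subset_closure (Or.inl rfl)
  have hb : n * X1 1 ∈ M := Subgroup.subset_closure (Or.inr rfl)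
  have hN : h ^ (Nat.card K - 1) = 1 := by
    refine Subtype.ext ?_
    rw [SubmonoidClass.coe_pow, hh', ← map_pow, Subgroup.coe_one,
      show d ^ (Nat.card K - 1) = 1 from funext fun i => by
        rw [Pi.pow_apply, Pi.one_apply, Nat.card_eq_fintype_card, ← Fintype.card_units]; exact pow_card_eq_one,
      map_one]
  have hpow : ∀ k : ℕ, X0 hq hK 1 ^ k = X0 hq hK k := fun k => by
    induction k with
    | zero => rw [pow_zero, Nat.cast_zero, (coord0 hq hK).zeroX]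
    | succ k ih => rw [pow_succ, ih, ← (coord0 hq hK).addX, Nat.cast_succ]
  have hp0 : X0 hq hK 1 ^ p = 1 := by
    rw [hpow, show ((p : ℕ) : R0 hq hK) = 0 from Subtype.ext (by
      show ((p : ℕ) : K) = 0
      exact CharP.cast_eq_zero K p), (coord0 hq hK).zeroX]
  have hcop : Nat.Coprime (Nat.card K - 1) p := by
    refine (hp.nat_prime.coprime_iff_not_dvd.mpr fun hdvd => ?_).symm
    have hpK : p ∣ Nat.card K := by
      rw [Nat.card_eq_fintype_card, hK, ← hqp, ← pow_mul]; exact dvd_pow_self _ (by omega)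
    have := Nat.dvd_sub hpK hdvd
    rw [Nat.sub_sub_self (Nat.card_pos (α := K)), Nat.dvd_one] at this
    exact hp.nat_prime.one_lt.ne' this
  have hcomm : Commute h (X0 hq hK 1) := by
    have := (hc0 1).1
    rw [Units.val_one, one_mul] at this
    exact mul_inv_eq_iff_eq_mul.mp this
  obtain ⟨hhM, hX01⟩ := CfsgLib.TwoGenBN.split_mem hcomm hN hp0 hcop hab
  have hnh : n * h * n⁻¹ ∈ Subgroup.zpowers h := by
    rw [show n * h * n⁻¹ = h⁻¹ from Subtype.ext (by
      rw [Subgroup.coe_inv, hh', hnc h (CfsgLib.Chev.chevD4.coHom K d) hh' (hh' ▸ Tw.tor_mem_H d)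
        (CfsgLib.Chev.chevD4.coHom K d)⁻¹ (fun j => rfl), map_inv]; rfl)]
    exact inv_mem (Subgroup.mem_zpowers h)
  have hUp : IsPGroup p ((Cfsg.Lie.chevD4.posUnipotent K).subgroupOf (twistedD4 K q)) :=
    IsPGroup.of_card (n := f * 12) (by
      rw [← Subgroup.inf_subgroupOf_right, Nat.card_congr (Subgroup.subgroupOfEquivOfLe (inf_le_right)).toEquiv,
        card_U hq hK, pow_mul, hqp])
  have hg1 : (g : K) ≠ 1 := fun e => by
    have h1 : ∀ u : Kˣ, u = 1 := fun u => by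
      obtain ⟨k, rfl⟩ := Subgroup.mem_zpowers_iff.mp (hg u); rw [Units.ext (u := g) (v := 1) e, _root_.one_zpow]
    have h3 : Nat.card Kˣ = 1 := Nat.card_eq_one_iff_unique.mpr ⟨⟨fun x y => (h1 x).trans (h1 y).symm⟩, ⟨1⟩⟩
    rw [Nat.card_units, Nat.card_eq_fintype_card, hK] at h3
    have := Nat.pow_le_pow_left hq.two_le 3
    omega
  obtain ⟨hn, hX⟩ := CfsgLib.TwoGenBN.families_mem (p := p) (ι := Unit) (R := fun _ => K) (fun _ t => X1 (q := q) t)
    (hUp.to_le ((Subgroup.closure_le _).mpr fun y hy => by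
      obtain ⟨-, t, rfl⟩ := Set.mem_iUnion.mp hy
      exact Tw.rootP_U (((coord1 hq hK).memX _).mpr ⟨t, rfl⟩)))
    (fun ψ _ _ s t => by rw [← map_mul]; exact congrArg ψ (Subtype.ext ((coord1 hq hK).addX s t)))
    (fun _ => (g : K)) (fun _ r => CfsgLib.TwoGenBN.gen_of_units hg r)
    (fun a b hab => absurd (Subsingleton.elim a b) hab) (fun _ => hg1) (fun _ t => (hc1 t).1) hhM (n := n)
    (by simpa using hb) hnh
  have hY : ∀ t : K, Y1 t ∈ M := fun t => by
    obtain ⟨s, hs⟩ := ((coord1 hq hK).memX _).mp (Tw.rootP_of_long hπ hnN hnM hflip hσ (a := ox 1)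
      (fun i hi => hi) (((coord1 hq hK).memY (Y1 t)).mpr ⟨t, rfl⟩))
    rw [show Y1 t = n * X1 s * n⁻¹ by rw [← hs]; group]
    exact mul_mem (mul_mem hn (hX () s)) (inv_mem hn)
  refine Tw.Gen.top_of_pos twisted_eq (fun g hg => (gens_fix hq hK hg).2) hπ hnN hnM hflip hn fun a x hx => ?_
  match a, hx with
  | ⟨0, _⟩, hx =>
    obtain ⟨t, rfl⟩ := ((coord0 hq hK).memX x).mp hx
    exact short_mem hq hK (fun t => hX () t) hY hX01 t
  | ⟨1, _⟩, hx =>
    obtain ⟨t, rfl⟩ := ((coord1 hq hK).memX x).mp hx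
    exact hX () t

end CfsgLib.Chev.T3D4
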