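/-
Two generators of ²E₆.
-/
import Cfsg.Agent.Lib.TwoGenBN.Twisted
import Cfsg.Agent.Lib.Chev.TwoGenCheck
import Cfsg.Agent.Lib.Chev.Twist.Invert
import Cfsg.Agent.Lib.Chev.Twist.AutE6

namespace CfsgLib.Chev.T2E6

open Cfsg.Lie Matrix Chev

set_option linter.dupNamespace false
set_option linter.unusedSectionVars false
set_option maxRecDepth 100000
set_option maxHeartbeats 1000000

variable {K : Type*} [Field K] [Fintype K] {q : ℕ} (hq : IsPrimePow q) (hK : Fintype.card K = q ^ 2)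

/-- The longest element of the Weyl group. -/
noncomputable def π0 : Equiv.Perm (Fin Cfsg.Lie.chevE6.nroots) :=
  (([ox 0, ox 1, ox 2, ox 3] : List (Fin S.m)).map S.w).prod ^ 6

theorem π0_mem : π0 ∈ S.W1 := by
  refine pow_mem (Subgroup.list_prod_mem _ fun x hx => ?_) 6
  obtain ⟨a, -, rfl⟩ := List.mem_map.mp hx
  exact S.w_mem_W1 a

theorem π0_p (i : Fin Cfsg.Lie.chevE6.rank) :
    π0 (CfsgLib.Chev.chevE6.p i) = (CfsgLib.Chev.chevE6.p (S.τ i)).rev := by
  refine Fin.ext ?_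
  rw [π0, ← symOKE6.cycIter_eq [ox 0, ox 1, ox 2, ox 3] 6, p_rev_val, p_val]
  have h : ∀ i : Fin Cfsg.Lie.chevE6.rank, cycIter symE6 [0, 1, 2, 3] 6 (Cfsg.Lie.chevE6.simple i.val) =
      Cfsg.Lie.chevE6.neg (Cfsg.Lie.chevE6.simple (symE6.t i.val)) := by decide +kernel
  exact h i

/-- A word maps the roots of an orbit into another orbit. -/
theorem map_PJ (L : List (Fin S.m)) (k : ℕ) (a b : Fin S.m) (i j : Fin Cfsg.Lie.chevE6.rank)
    (i' j' : Fin Cfsg.Lie.chevE6.rank) (ha : ∀ r, S.PJ a r → r = CfsgLib.Chev.chevE6.p i ∨ r = CfsgLib.Chev.chevE6.p j)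
    (hi : i' ∈ S.J b) (hj : j' ∈ S.J b)
    (h1 : cycIter symE6 (L.map Fin.val) k (Cfsg.Lie.chevE6.simple i.val) = Cfsg.Lie.chevE6.simple i'.val)
    (h2 : cycIter symE6 (L.map Fin.val) k (Cfsg.Lie.chevE6.simple j.val) = Cfsg.Lie.chevE6.simple j'.val) :
    ∀ r, S.PJ a r → S.PJ b (((L.map S.w).prod ^ k) r) := by
  intro r hr
  rcases ha r hr with rfl | rfl
  · rw [show ((L.map S.w).prod ^ k) (CfsgLib.Chev.chevE6.p i) = CfsgLib.Chev.chevE6.p i' from Fin.ext (by
      rw [← symOKE6.cycIter_eq L k, p_val, p_val]; exact h1)]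
    exact S.p_mem_PJ hi
  · rw [show ((L.map S.w).prod ^ k) (CfsgLib.Chev.chevE6.p j) = CfsgLib.Chev.chevE6.p j' from Fin.ext (by
      rw [← symOKE6.cycIter_eq L k, p_val, p_val]; exact h2)]
    exact S.p_mem_PJ hj

include hq hK in
theorem finish {M : Subgroup (twistedE6 K q)} {n : twistedE6 K q} (hnN : (n : GL Cfsg.Lie.chevE6.Idx K) ∈
      Cfsg.Lie.chevE6.monomialSubgroup K) (hnM : CfsgLib.Chev.chevE6.Mono (n : GL Cfsg.Lie.chevE6.Idx K) π0)
    (hn : n ∈ M) (hX2 : ∀ t : K, X2 t ∈ M) (hX3 : ∀ t : K, X3 t ∈ M) {c0 c1 : R0 hq hK}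
    (hc0 : c0 ≠ 0) (h0 : X0 hq hK c0 ∈ M) (hc1 : c1 ≠ 0) (h1 : X1 hq hK c1 ∈ M) : M = ⊤ := by
  classical
  have hflip : ∀ r, CfsgLib.Chev.chevE6.toTables.Pos r ↔ ¬ CfsgLib.Chev.chevE6.toTables.Pos (π0 r) := by
    have hW := (S.mem_W1.mp π0_mem).1
    refine CfsgLib.Chev.chevE6.pos_flip (CfsgLib.Chev.chevE6.W_le_WL hW) fun r hr =>
      CfsgLib.Chev.chevE6.not_pos_of_comb hW hr fun k _ => ?_
    rw [π0_p, CfsgLib.Chev.chevE6.pos_rev_iff, not_not]
    exact CfsgLib.Chev.chevE6.p_pos _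
  have hneg : ∀ a y, Tw.rootN S a y → (∀ x, Tw.rootP S a x → x ∈ M) → y ∈ M := fun a y hy hP => by
    have h2 := hP _ (Tw.rootP_of_long π0_mem hnN hnM hflip π0_p (a := a) (fun i hi => (S.stable a i).mpr hi) hy)
    have h3 := mul_mem (mul_mem hn h2) (inv_mem hn)
    simpa [mul_assoc] using h3
  have hP2 : ∀ x, Tw.rootP S (ox 2) x → x ∈ M := fun x hx => by
    obtain ⟨t, rfl⟩ := ((coord2 hq hK).memX x).mp hx; exact hX2 t
  have hY2 : ∀ t : K, Y2 t ∈ M := fun t => hneg _ _ (((coord2 hq hK).memY _).mpr ⟨t, rfl⟩) hP2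
  have hu : ∀ (t : R0 hq hK) (ht : (t : K) ≠ 0), ((Units.mk0 (t : K) ht)⁻¹) ^ q = (Units.mk0 (t : K) ht)⁻¹ :=
    fun t ht => by
      rw [inv_pow, _root_.inv_inj]
      exact Units.ext (by rw [Units.val_pow_eq_pow_val, Units.val_mk0, R0_pow])
  have hX1 : ∀ t, X1 hq hK t ∈ M := by
    suffices H : ∀ r : R0 hq hK, X1 hq hK (r * c1) ∈ M by
      intro t; have := H (t / c1); rwa [div_mul_cancel₀ t hc1] at this
    intro r
    by_cases hr : (r : K) = 0
    · rw [show r = 0 from Subtype.ext hr, zero_mul, (coord1 hq hK).zeroX]; exact one_mem _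
    obtain ⟨u, huv⟩ := norm_surj (hu r hr) hq hK
    let d : (tw hq hK).stableParam := ⟨_, vec_stable hq hK (a := 1) (b := 1) (c := u) (e := 1) (one_pow _) (one_pow _)⟩
    have hmem : Tw.tor (Φ := CfsgLib.Chev.chevE6) d.1 ∈ M.map (twistedE6 K q).subtype :=
      (orb2.facts (T := tw hq hK) (G1 := M.map (twistedE6 K q).subtype) fun x y hx _ => by
        rw [k_p] at hx; subst hx
        exact ⟨⟨X2 x, hX2 x, rfl⟩, ⟨Y2 x, hY2 x, rfl⟩⟩).2.2 d.1 d.2 (fun j hj => by
          rw [orb2.hJ] at hj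
          push Not at hj
          revert j
          rw [forall_ix]
          refine ⟨fun _ => rfl, fun _ => rfl, fun h => absurd rfl h.1, fun _ => rfl, fun h => absurd rfl h.2, fun _ => ?_⟩
          show ((1 : Kˣ) ^ q) = 1
          exact one_pow _)
    have hval : ((coH hq hK d).1 (ix 3) : K) = (r : K) := by
      show ((CfsgLib.Chev.chevE6.coHom K d.1 (ix 3) : Kˣ) : K) = _
      rw [(coHom_val d.1).2.2]
      have : u⁻¹ * (u ^ q)⁻¹ = Units.mk0 (r : K) hr := by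
        rw [← mul_inv, inv_eq_iff_eq_inv, ← huv, pow_add, pow_one]
      rw [← Units.val_mk0 hr, ← this]
      simp [d, vec6]
    obtain ⟨k, hk, e⟩ := hmem
    let a : (R0 hq hK)ˣ := Units.mk0 r (fun e => hr (by rw [e]; rfl))
    have h2 := mul_mem (mul_mem hk h1) (inv_mem hk)
    rw [show k = ⟨_, tor_mem hq hK d⟩ from Subtype.ext e, ← MulAut.conj_apply, conj_tor,
      ((dAut_one hq hK _ _).2 a hval.symm).1] at h2
    exact h2
  have hY1 : ∀ t, Y1 hq hK t ∈ M := fun t => hneg _ _ (((coord1 hq hK).memY _).mpr ⟨t, rfl⟩) fun x hx => by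
    obtain ⟨s, rfl⟩ := ((coord1 hq hK).memX x).mp hx; exact hX1 s
  have hX0 : ∀ t, X0 hq hK t ∈ M := by
    suffices H : ∀ r : R0 hq hK, X0 hq hK (r * c0) ∈ M by
      intro t; have := H (t / c0); rwa [div_mul_cancel₀ t hc0] at this
    intro r
    by_cases hr : (r : K) = 0
    · rw [show r = 0 from Subtype.ext hr, zero_mul, (coord0 hq hK).zeroX]; exact one_mem _
    let d : (tw hq hK).stableParam :=
      ⟨_, vec_stable hq hK (a := 1) (b := 1) (c := 1) (one_pow _) (hu r hr)⟩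
    have hmem : Tw.tor (Φ := CfsgLib.Chev.chevE6) d.1 ∈ M.map (twistedE6 K q).subtype :=
      (orb1.facts (T := tw hq hK) (G1 := M.map (twistedE6 K q).subtype) fun x hx => by
        rw [k_p] at hx
        exact ⟨⟨X1 hq hK ⟨x, mem_R0 hq hK hx⟩, hX1 _, rfl⟩,
          ⟨Y1 hq hK ⟨x, mem_R0 hq hK hx⟩, hY1 _, rfl⟩⟩).2.2 d.1 d.2
        (fun j hj => by
          rw [orb1.hJ] at hj
          revert j
          rw [forall_ix]
          refine ⟨fun _ => rfl, fun _ => rfl, fun _ => rfl, fun h => absurd rfl h, fun _ => ?_, fun _ => ?_⟩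
          · show ((1 : Kˣ) ^ q) = 1
            exact one_pow _
          · show ((1 : Kˣ) ^ q) = 1
            exact one_pow _)
    have hval : ((coH hq hK d).1 (ix 1) : K) = (r : K) := by
      show ((CfsgLib.Chev.chevE6.coHom K d.1 (ix 1) : Kˣ) : K) = _
      rw [(coHom_val d.1).1]
      simp [d, vec6]
    obtain ⟨k, hk, e⟩ := hmem
    let a : (R0 hq hK)ˣ := Units.mk0 r (fun e => hr (by rw [e]; rfl))
    have h2 := mul_mem (mul_mem hk h0) (inv_mem hk)
    rw [show k = ⟨_, tor_mem hq hK d⟩ from Subtype.ext e, ← MulAut.conj_apply, conj_tor,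
      ((dAut_one hq hK _ _).1 a hval.symm).1] at h2
    exact h2
  refine Tw.Gen.top_of_pos twisted_eq (fun g hg => (gens_fix hq hK hg).2) π0_mem hnN hnM hflip hn fun a x hx => ?_
  rcases ox_cases a with rfl | rfl | rfl | rfl
  · obtain ⟨t, rfl⟩ := ((coord0 hq hK).memX x).mp hx; exact hX0 t
  · obtain ⟨t, rfl⟩ := ((coord1 hq hK).memX x).mp hx; exact hX1 t
  · exact hP2 x hx
  · obtain ⟨t, rfl⟩ := ((coord3 hq hK).memX x).mp hx; exact hX3 t

include hq hK in
theorem poly_gen {x : K} (hx : q ≤ orderOf x) (hx0 : x ≠ 0) (r : K) :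
    ∃ P : Polynomial ℤ, Polynomial.aeval x P = r := by
  classical
  let f : Polynomial ℤ →ₐ[ℤ] K := Polynomial.aeval x
  have hB : ∀ y, y ∈ f.range → y ≠ 0 → y⁻¹ ∈ f.range := fun y hy hy0 => by
    have h1 : y ^ (Fintype.card K - 1) = 1 := FiniteField.pow_card_sub_one_eq_one y hy0
    have h2 : 2 ≤ Fintype.card K := Fintype.one_lt_card
    rw [show y⁻¹ = y ^ (Fintype.card K - 2) from (inv_eq_of_mul_eq_one_right (by
      rw [← pow_succ', show Fintype.card K - 2 + 1 = Fintype.card K - 1 by omega, h1]))]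
    exact pow_mem hy _
  by_contra hr
  have hr' : r ∉ f.range := fun ⟨P, hP⟩ => hr ⟨P, hP⟩
  have hinj : Function.Injective fun p : ↥f.range × ↥f.range => (p.1 : K) + r * (p.2 : K) := by
    rintro ⟨a, b⟩ ⟨a', b'⟩ e
    simp only at e
    by_cases hb : (b : K) = b'
    · rw [hb, add_left_inj] at e
      exact Prod.ext (Subtype.ext e) (Subtype.ext hb)
    · exfalso
      apply hr'
      have hbb : (b : K) - b' ≠ 0 := sub_ne_zero.mpr hb
      rw [show r = ((a' : K) - a) * ((b : K) - b')⁻¹ by field_simp; linear_combination e]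
      exact mul_mem (sub_mem a'.2 a.2) (hB _ (sub_mem b.2 b'.2) hbb)
  have h1 := Nat.card_le_card_of_injective _ hinj
  rw [Nat.card_prod, Nat.card_eq_fintype_card (α := K), hK] at h1
  let pw : Option (Fin (orderOf x)) → ↥f.range := fun o => match o with
    | none => 0
    | some k => ⟨x ^ k.val, ⟨Polynomial.X ^ k.val, by simp [f]⟩⟩
  have hpw : Function.Injective pw := by
    rintro (_ | k) (_ | l) e
    · rfl
    · exact absurd (congrArg Subtype.val e).symm (pow_ne_zero _ hx0)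
    · exact absurd (congrArg Subtype.val e) (pow_ne_zero _ hx0)
    · exact congrArg some (Fin.ext (pow_injOn_Iio_orderOf (Set.mem_Iio.mpr k.isLt) (Set.mem_Iio.mpr l.isLt)
        (congrArg Subtype.val e)))
  have h2 := Nat.card_le_card_of_injective pw hpw
  rw [Nat.card_eq_fintype_card (α := Option _), Fintype.card_option, Fintype.card_fin] at h2
  have h3 : q + 1 ≤ Nat.card ↥f.range := by omega
  have := Nat.mul_le_mul h3 h3
  nlinarith

include hq hK in
theorem no_inv_hom {x : K} (hgen : ∀ r, ∃ P : Polynomial ℤ, Polynomial.aeval x P = r) (hx : q + 1 < orderOf x) :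
    ¬ ∃ ψ : K →+* K, ψ x = x⁻¹ := by
  classical
  rintro ⟨ψ, hψ⟩
  have hb : Function.Bijective ψ := Finite.injective_iff_bijective.mp ψ.injective
  let σ : RingAut K := RingEquiv.ofBijective ψ hb
  let φ : RingAut K := RingEquiv.ofBijective (frob hq hK) (Finite.injective_iff_bijective.mp (frob hq hK).injective)
  have hσx : σ x = x⁻¹ := hψ
  have hσ2 : σ ^ 2 = 1 := RingEquiv.ext fun r => by
    obtain ⟨P, rfl⟩ := hgen r
    show σ (σ (Polynomial.aeval x P)) = _
    have e : ∀ (τ : RingAut K) (y : K), τ (Polynomial.aeval y P) = Polynomial.aeval (τ y) P := fun τ y =>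
      (Polynomial.aeval_algHom_apply ((τ : K ≃+* K).toRingHom.toIntAlgHom) y P).symm
    rw [e, e, hσx, map_inv₀, hσx, inv_inv]
    rfl
  have hφ2 : φ ^ 2 = 1 := RingEquiv.ext fun r => by
    show frob hq hK (frob hq hK r) = r
    rw [frob_apply, frob_apply, pow_q_q hK]
  have hord : 1 < orderOf x := by omega
  have hσ1 : σ ≠ 1 := fun e => by
    rw [e] at hσx
    have hx0 : x ≠ 0 := fun h0 => by rw [h0, orderOf_zero] at hx; omega
    have h2 : x ^ 2 = 1 := by
      rw [sq]; nth_rewrite 2 [show x = x⁻¹ from hσx]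
      exact mul_inv_cancel₀ hx0
    have := orderOf_le_of_pow_eq_one two_pos h2
    have := hq.two_le
    omega
  have hφ1 : φ ≠ 1 := fun e => by
    have hall : ∀ r : K, r ^ q = r := fun r => by
      rw [← frob_apply hq hK]; exact DFunLike.congr_fun e r
    have := no_inj hq hK (fun r => ⟨r, mem_R0 hq hK (hall r)⟩)
    exact this fun a b h => congrArg Subtype.val h
  haveI := ringAut_cyclic_finite K
  haveI : Finite (RingAut K) := Finite.of_injective (fun τ : RingAut K => (τ : K → K)) DFunLike.coe_injective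
  haveI : Fintype (RingAut K) := Fintype.ofFinite _
  have hsub : ({1, σ, φ} : Finset (RingAut K)) ⊆ Finset.univ.filter fun a => a ^ 2 = 1 := by
    intro a ha
    simp only [Finset.mem_insert, Finset.mem_singleton] at ha
    rcases ha with rfl | rfl | rfl <;> simp [hσ2, hφ2]
  have hc := (Finset.card_le_card hsub).trans (IsCyclic.card_pow_eq_one_le (α := RingAut K) two_pos)
  by_cases hσφ : σ = φ
  · have h1 : x ^ q = x⁻¹ := by rw [← frob_apply hq hK, ← hσx, hσφ]; rfl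
    have h2 : x ^ (q + 1) = 1 := by
      rw [pow_succ, h1, inv_mul_cancel₀]
      intro h0; rw [h0, orderOf_zero] at hx; omega
    have := orderOf_le_of_pow_eq_one (by omega) h2
    omega
  · rw [Finset.card_eq_three.mpr ⟨1, σ, φ, Ne.symm hσ1, Ne.symm hφ1, hσφ, rfl⟩] at hc
    omega

include hq hK in
theorem sylow_facts : ∃ p : ℕ, p.Prime ∧ CharP K p ∧
    IsPGroup p ((Cfsg.Lie.chevE6.posUnipotent K).subgroupOf (twistedE6 K q)) ∧
    Nat.Coprime (Nat.card K - 1) p := by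
  obtain ⟨p, f, hp, hf, hqp⟩ := id hq
  haveI := Fact.mk hp.nat_prime
  refine ⟨p, hp.nat_prime, charP_of_card_eq_prime_pow (f := f * 2) (by rw [hK, ← hqp, ← pow_mul]),
    IsPGroup.of_card (n := f * 36) ?_, (hp.nat_prime.coprime_iff_not_dvd.mpr fun hdvd => ?_).symm⟩
  · rw [← Subgroup.inf_subgroupOf_right, Nat.card_congr (Subgroup.subgroupOfEquivOfLe (inf_le_right)).toEquiv,
      card_U hq hK, pow_mul, hqp]
  · have hpK : p ∣ Nat.card K := by
      rw [Nat.card_eq_fintype_card, hK, ← hqp, ← pow_mul]; exact dvd_pow_self _ (by omega)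
    have := Nat.dvd_sub hpK hdvd
    rw [Nat.sub_sub_self (Nat.card_pos (α := K)), Nat.dvd_one] at this
    exact hp.nat_prime.one_lt.ne' this

include hq hK in
theorem split_seed (c : (tw hq hK).stableParam) {M : Subgroup (twistedE6 K q)}
    (h1 : (coH hq hK c).1 (ix 3) = 1) (h : ⟨_, tor_mem hq hK c⟩ * X1 hq hK 1 ∈ M) :
    (⟨_, tor_mem hq hK c⟩ : twistedE6 K q) ∈ M ∧ X1 hq hK 1 ∈ M := by
  classical
  obtain ⟨p, hp, hchar, -, hcop⟩ := sylow_facts hq hK
  haveI := hchar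
  refine CfsgLib.TwoGenBN.split_mem ?_ (a := Nat.card K - 1) (b := p) ?_ ?_ hcop h
  · have := congrArg (fun θ : MulAut ↥(twistedE6 K q) => θ (X1 hq hK 1)) (conj_tor hq hK c)
    simp only [MulAut.conj_apply] at this
    rw [((dAut_one hq hK _ _).2 1 (by rw [h1]; rfl)).1, Units.val_one, one_mul] at this
    exact mul_inv_eq_iff_eq_mul.mp this
  · refine Subtype.ext ?_
    rw [SubmonoidClass.coe_pow, Subgroup.coe_one, ← map_pow,
      show c.1 ^ (Nat.card K - 1) = 1 from funext fun i => by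
        rw [Pi.pow_apply, Pi.one_apply, Nat.card_eq_fintype_card, ← Fintype.card_units]; exact pow_card_eq_one,
      map_one]
  · have hpow : ∀ k : ℕ, X1 hq hK 1 ^ k = X1 hq hK k := fun k => by
      induction k with
      | zero => rw [pow_zero, Nat.cast_zero, (coord1 hq hK).zeroX]
      | succ k ih => rw [pow_succ, ih, ← (coord1 hq hK).addX, Nat.cast_succ]
    rw [hpow, show ((p : ℕ) : R0 hq hK) = 0 from Subtype.ext (by
      show ((p : ℕ) : K) = 0
      exact CharP.cast_eq_zero K p), (coord1 hq hK).zeroX]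

include hq hK in
theorem seed_move {M : Subgroup (twistedE6 K q)} {n : twistedE6 K q} {π : Equiv.Perm (Fin Cfsg.Lie.chevE6.nroots)}
    (hm : CfsgLib.Chev.chevE6.Mono (n : GL Cfsg.Lie.chevE6.Idx K) π) (hn : n ∈ M) (h1 : X1 hq hK 1 ∈ M)
    (hmap : ∀ r, S.PJ (ox 1) r → S.PJ (ox 0) (π r)) : ∃ c0, c0 ≠ 0 ∧ X0 hq hK c0 ∈ M := by
  obtain ⟨c0, hc⟩ := ((coord0 hq hK).memX _).mp
    (Tw.rootP_map hm hmap (((coord1 hq hK).memX _).mpr ⟨1, rfl⟩))
  refine ⟨c0, fun e => ?_, hc ▸ mul_mem (mul_mem hn h1) (inv_mem hn)⟩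
  rw [e, (coord0 hq hK).zeroX, mul_inv_eq_one, mul_eq_left, ← (coord1 hq hK).zeroX] at hc
  exact one_ne_zero ((coord1 hq hK).injX hc)

include hq hK in
theorem fam_conj (c : (tw hq hK).stableParam) (t : K) :
    ((⟨_, tor_mem hq hK c⟩ : twistedE6 K q) * X2 t * (⟨_, tor_mem hq hK c⟩ : twistedE6 K q)⁻¹ =
      X2 (((coH hq hK c).1 (ix 2) : K) * t)) ∧
    ((⟨_, tor_mem hq hK c⟩ : twistedE6 K q) * X3 t * (⟨_, tor_mem hq hK c⟩ : twistedE6 K q)⁻¹ =
      X3 (((coH hq hK c).1 (ix 0) : K) * t)) := by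
  have h := conj_tor hq hK c
  exact ⟨(DFunLike.congr_fun h (X2 t)).trans (dAut_two hq hK _ t).1.1,
    (DFunLike.congr_fun h (X3 t)).trans (dAut_two hq hK _ t).2.1⟩

theorem expo_sum (m : List ℤ) (s : Fin Cfsg.Lie.chevE6.nroots) :
    TwoGen.expo Cfsg.Lie.chevE6 m s.val =
      ∑ i : Fin Cfsg.Lie.chevE6.rank, m.getD i.val 0 * CfsgLib.Chev.chevE6.A i s := by
  have hfold : ∀ N : ℕ, (List.range N).foldl (fun a i => a + m.getD i 0 * Cfsg.Lie.chevE6.cartan i s.val) 0 =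
      ∑ i ∈ Finset.range N, m.getD i 0 * Cfsg.Lie.chevE6.cartan i s.val := by
    intro N
    induction N with
    | zero => simp
    | succ N ih => rw [List.range_succ, List.foldl_append, ih, Finset.sum_range_succ]; simp
  rw [TwoGen.expo, hfold, ← Fin.sum_univ_eq_sum_range (fun i => m.getD i 0 * Cfsg.Lie.chevE6.cartan i s.val)]
  exact Finset.sum_congr rfl fun i _ => by rw [CfsgLib.Chev.chevE6.cartan_val]

theorem chi_expo (g : Kˣ) (m : List ℤ) (s : Fin Cfsg.Lie.chevE6.nroots) :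
    CfsgLib.Chev.chevE6.toSys.chi (CfsgLib.Chev.chevE6.coHom K fun k => g ^ m.getD k.val 0) s =
      g ^ TwoGen.expo Cfsg.Lie.chevE6 m s.val := by
  rw [Chev.chi_coHom_tw, expo_sum]
  have hp : ∀ (S : Finset (Fin Cfsg.Lie.chevE6.rank)) (J : Fin Cfsg.Lie.chevE6.rank → ℤ),
      ∏ j ∈ S, g ^ J j = g ^ ∑ j ∈ S, J j := by
    intro S J
    induction S using Finset.induction_on with
    | empty => simp
    | insert j S hj ih => rw [Finset.prod_insert hj, Finset.sum_insert hj, ih, _root_.zpow_add]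
  simp only [← _root_.zpow_mul]
  exact hp _ _

/-- The Coxeter word. -/
abbrev cox : List (Fin S.m) := [ox 0, ox 1, ox 2, ox 3]

/-- The exponent by which the Coxeter element acts on the torus element of order three. -/
def expK : ℤ :=
  if (List.range 6).all (fun i => ((TwoGen.expo Cfsg.Lie.chevE6 [1, 0, 0, 0, 0, 2]
      (cycIter symE6 [0, 1, 2, 3] 11 (Cfsg.Lie.chevE6.simple i)) -
        TwoGen.expo Cfsg.Lie.chevE6 [1, 0, 0, 0, 0, 2] (Cfsg.Lie.chevE6.simple i)) % 3 == 0)) then 1 else 2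

theorem expK_spec : ∀ i : Fin Cfsg.Lie.chevE6.rank,
    ((TwoGen.expo Cfsg.Lie.chevE6 [1, 0, 0, 0, 0, 2]
        (cycIter symE6 [0, 1, 2, 3] 11 (Cfsg.Lie.chevE6.simple i.val)) -
      expK * TwoGen.expo Cfsg.Lie.chevE6 [1, 0, 0, 0, 0, 2] (Cfsg.Lie.chevE6.simple i.val)) % 3 = 0) := by
  decide +kernel

include hq hK in
theorem two_gen_small (hq2 : q = 2) :
    ∃ a b : twistedE6 K q, Subgroup.closure ({a, b} : Set (twistedE6 K q)) = ⊤ := by
  classical
  obtain ⟨g, hg⟩ := IsCyclic.exists_generator (α := Kˣ)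
  have hK4 : Nat.card Kˣ = 3 := by rw [Nat.card_units, Nat.card_eq_fintype_card, hK, hq2]; norm_num
  have hg3 : orderOf g = 3 := by rw [orderOf_eq_card_of_forall_mem_zpowers hg, hK4]
  let c : (tw hq hK).stableParam := ⟨_, vec_stable hq hK (a := g) (b := 1) (c := 1) (e := 1) (one_pow _) (one_pow _)⟩
  set h : twistedE6 K q := ⟨_, tor_mem hq hK c⟩
  obtain ⟨nn, hn1, hn2, hn3⟩ := (gen hq hK).exists_nW1 (π := (cox.map S.w).prod)
    (Subgroup.list_prod_mem _ fun x hx => by obtain ⟨a, -, rfl⟩ := List.mem_map.mp hx; exact S.w_mem_W1 a)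
  set n : twistedE6 K q := ⟨nn, hn1⟩
  have hnN : (n : GL Cfsg.Lie.chevE6.Idx K) ∈ Cfsg.Lie.chevE6.monomialSubgroup K := hn2
  have hnM : CfsgLib.Chev.chevE6.Mono (n : GL Cfsg.Lie.chevE6.Idx K) (cox.map S.w).prod := hn3
  refine ⟨h * X1 hq hK 1, n * X2 1, ?_⟩
  set M := Subgroup.closure ({h * X1 hq hK 1, n * X2 1} : Set (twistedE6 K q))
  have hab : h * X1 hq hK 1 ∈ M := Subgroup.subset_closure (Or.inl rfl)
  have hb : n * X2 1 ∈ M := Subgroup.subset_closure (Or.inr rfl)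
  have hv1 : (coH hq hK c).1 (ix 3) = 1 := by
    show CfsgLib.Chev.chevE6.coHom K c.1 (ix 3) = 1
    rw [(coHom_val c.1).2.2]; simp [c, vec6]
  have hv2 : (coH hq hK c).1 (ix 2) = g⁻¹ := by
    show CfsgLib.Chev.chevE6.coHom K c.1 (ix 2) = _
    rw [(coHom_val c.1).2.1]; simp [c, vec6]
  obtain ⟨hhM, hX11⟩ := split_seed hq hK c hv1 hab
  -- the exponents of `c`
  let m : List ℤ := [1, 0, 0, 0, 0, 2]
  have hc : c.1 = fun k => g ^ m.getD k.val 0 := funext (forall_ix.mpr ⟨(_root_.zpow_one g).symm, (_root_.zpow_zero g).symm,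
    (_root_.zpow_zero g).symm, (_root_.zpow_zero g).symm, by show (1 : Kˣ) ^ q = g ^ (0 : ℤ); simp,
    by show g ^ q = g ^ (2 : ℤ); rw [hq2]; norm_cast⟩)
  have hnh : n * h * n⁻¹ ∈ Subgroup.zpowers h := by
    obtain ⟨c'', hc''⟩ := CfsgLib.Chev.chevE6.exists_torus_of_mem_H
      (CfsgLib.Chev.chevE6.H_conj_mem hnN (Tw.tor_mem_H c.1))
    obtain ⟨k, hk⟩ : ∃ k : ℤ, ∀ i : Fin Cfsg.Lie.chevE6.rank,
        ((TwoGen.expo Cfsg.Lie.chevE6 m (cycIter symE6 [0, 1, 2, 3] 11 (Cfsg.Lie.chevE6.simple i.val)) -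
          k * TwoGen.expo Cfsg.Lie.chevE6 m (Cfsg.Lie.chevE6.simple i.val)) % 3 = 0) :=
      ⟨expK, expK_spec⟩
    refine ⟨k, Subtype.ext ?_⟩
    simp only [Subgroup.coe_mul, Subgroup.coe_inv]
    rw [SubgroupClass.coe_zpow]
    refine Eq.trans ?_ hc''.symm
    show Tw.tor (Φ := CfsgLib.Chev.chevE6) c.1 ^ k = _
    rw [← map_zpow]
    show CfsgLib.Chev.chevE6.toAlg.torus _ = _
    refine congrArg _ (funext fun i => ?_)
    set s := (((cox.map S.w).prod) ^ 11) (CfsgLib.Chev.chevE6.p i) with hs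
    have hπs : (cox.map S.w).prod s = CfsgLib.Chev.chevE6.p i := by
      rw [hs, ← Equiv.Perm.mul_apply, ← pow_succ']
      refine Fin.ext ?_
      rw [← symOKE6.cycIter_eq cox 12, p_val]
      have h12 : ∀ i : Fin Cfsg.Lie.chevE6.rank,
          cycIter symE6 [0, 1, 2, 3] 12 (Cfsg.Lie.chevE6.simple i.val) = Cfsg.Lie.chevE6.simple i.val := by
        decide +kernel
      exact h12 i
    have h2 := Tw.mono_conj_torus hnM (CfsgLib.Chev.chevE6.coHom K c.1) c'' hc'' s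
    rw [hπs, CfsgLib.Chev.chevE6.toSys.chi_simple, hc, chi_expo] at h2
    rw [h2, map_zpow, Pi.pow_apply, ← CfsgLib.Chev.chevE6.toSys.chi_simple (CfsgLib.Chev.chevE6.coHom K c.1) i, hc,
      chi_expo, ← _root_.zpow_mul,
      zpow_eq_zpow_iff_modEq, hg3, hs, ← symOKE6.cycIter_eq cox 11, p_val]
    exact (Int.modEq_iff_dvd.mpr (by
      rw [mul_comm _ k]; exact Int.dvd_of_emod_eq_zero (hk i)))
  obtain ⟨p, hp, -, hUp, -⟩ := sylow_facts hq hK
  haveI := Fact.mk hp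
  have hl1 : ((coH hq hK c).1 (ix 2) : K) ≠ 1 := by
    rw [hv2]
    intro e
    have : g = 1 := inv_eq_one.mp (Units.ext e)
    rw [this, orderOf_one] at hg3
    omega
  obtain ⟨hn, hX2'⟩ := CfsgLib.TwoGenBN.families_mem (p := p) (ι := Unit) (R := fun _ => K)
    (fun _ t => X2 (q := q) t)
    (hUp.to_le ((Subgroup.closure_le _).mpr fun y hy => by
      obtain ⟨-, t, rfl⟩ := Set.mem_iUnion.mp hy
      exact Tw.rootP_U (((coord2 hq hK).memX _).mpr ⟨t, rfl⟩)))
    (fun ψ _ _ s t => by rw [← map_mul]; exact congrArg ψ (Subtype.ext ((coord2 hq hK).addX s t)))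
    (fun _ => ((coH hq hK c).1 (ix 2) : K))
    (fun _ r => poly_gen hq hK (by
      rw [hv2, orderOf_units, orderOf_inv, hg3]; omega) (Units.ne_zero _) r)
    (fun a b hab => absurd (Subsingleton.elim a b) hab) (fun _ => hl1) (fun _ t => (fam_conj hq hK c t).1) hhM
    (n := n) (by simpa using hb) hnh
  have hX2 : ∀ t : K, X2 t ∈ M := fun t => hX2' () t
  have hX3 : ∀ t : K, X3 t ∈ M := fun t => by
    have hmap := map_PJ cox 11 (ox 3) (ox 2) (ix 0) (ix 5) (ix 2) (ix 4) (fun r hr => orb3.hPJ r hr) orb2.mem.1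
      orb2.mem.2 (by decide +kernel) (by decide +kernel)
    obtain ⟨s, hs⟩ := ((coord2 hq hK).memX _).mp
      (Tw.rootP_map (Tw.mono_pow hnM 11) hmap (((coord3 hq hK).memX (X3 t)).mpr ⟨t, rfl⟩))
    rw [show X3 t = (n ^ 11)⁻¹ * X2 s * n ^ 11 by rw [← hs]; group]
    exact mul_mem (mul_mem (inv_mem (pow_mem hn 11)) (hX2 s)) (pow_mem hn 11)
  obtain ⟨c0, hc0, hX0c⟩ := seed_move hq hK (Tw.mono_pow hnM 11) (pow_mem hn 11) hX11
    (map_PJ cox 11 (ox 1) (ox 0) (ix 3) (ix 3) (ix 1) (ix 1) (fun r hr => Or.inl (orb1.hPJ r hr)) orb0.mem orb0.mem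
      (by decide +kernel) (by decide +kernel))
  exact finish hq hK (n := n ^ 6) (by rw [SubmonoidClass.coe_pow]; exact pow_mem hnN 6) (Tw.mono_pow hnM 6)
    (pow_mem hn 6) hX2 hX3 hc0 hX0c one_ne_zero hX11

include hq hK in
theorem two_gen_big (hq2 : q ≠ 2) :
    ∃ a b : twistedE6 K q, Subgroup.closure ({a, b} : Set (twistedE6 K q)) = ⊤ := by
  classical
  have hq3 : 3 ≤ q := by have := hq.two_le; omega
  obtain ⟨g, hg⟩ := IsCyclic.exists_generator (α := Kˣ)
  set D := Nat.gcd 3 (q + 1) with hD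
  have hgord : orderOf g = q ^ 2 - 1 := by
    rw [orderOf_eq_card_of_forall_mem_zpowers hg, Nat.card_units, Nat.card_eq_fintype_card, hK]
  have hDdvd : D ∣ q ^ 2 - 1 := by
    refine (Nat.gcd_dvd_right 3 (q + 1)).trans ⟨q - 1, ?_⟩
    rw [show q ^ 2 - 1 = (q + 1) * (q - 1) by rw [← Nat.sq_sub_sq, one_pow]]
  have hord : orderOf (g ^ D) = (q ^ 2 - 1) / D := by
    rw [orderOf_pow' _ (Nat.gcd_pos_of_pos_left _ (by norm_num)).ne', hgord, Nat.gcd_eq_right hDdvd]
  have hbig : q + 1 < orderOf ((g ^ D : Kˣ) : K) := by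
    rw [orderOf_units, hord, Nat.lt_div_iff_mul_lt' hDdvd]
    have hD3 : D ≤ 3 := Nat.le_of_dvd (by norm_num) (Nat.gcd_dvd_left _ _)
    have hD1 : 1 ≤ D := Nat.gcd_pos_of_pos_left _ (by norm_num)
    rw [show q ^ 2 - 1 = (q + 1) * (q - 1) by rw [← Nat.sq_sub_sq, one_pow]]
    by_cases h5 : 5 ≤ q
    · calc D * (q + 1) ≤ 3 * (q + 1) := Nat.mul_le_mul_right _ hD3
        _ < (q + 1) * (q - 1) := by rw [mul_comm 3]; exact Nat.mul_lt_mul_of_pos_left (by omega) (by omega)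
    · have hDone : D = 1 := by
        have : q = 3 ∨ q = 4 := by omega
        rcases this with rfl | rfl <;> rfl
      rw [hDone, one_mul]
      calc q + 1 = (q + 1) * 1 := (mul_one _).symm
        _ < (q + 1) * (q - 1) := Nat.mul_lt_mul_of_pos_left (by omega) (by omega)
  let v : (tw hq hK).stableParam :=
    ⟨_, vec_stable hq hK (a := g⁻¹) (b := 1) (c := g) (e := 1) (one_pow _) (one_pow _)⟩
  have hvmem : v ^ D ∈ (coH hq hK).range := by
    rw [hD, ← index_range hq hK]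
    exact Subgroup.pow_index_mem _ v
  obtain ⟨c, hc⟩ := hvmem
  set l : K := ((g ^ D : Kˣ) : K) with hl
  have hv2 : ((coH hq hK c).1 (ix 2) : K) = l := by
    rw [hc]; show ((g ^ D : Kˣ) : K) = _; rfl
  have hv3 : ((coH hq hK c).1 (ix 0) : K) = l⁻¹ := by
    rw [hc, hl, ← Units.val_inv_eq_inv_val, ← inv_pow]; rfl
  have hv0 : (coH hq hK c).1 (ix 1) = 1 := by rw [hc]; exact one_pow D
  have hv1 : (coH hq hK c).1 (ix 3) = 1 := by rw [hc]; exact one_pow D
  set h : twistedE6 K q := ⟨_, tor_mem hq hK c⟩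
  obtain ⟨nL, hL1, hL2, hL3⟩ := (gen hq hK).exists_long π0_mem (fun i => S.τ i) π0_p
  -- the element moving the seed
  have c0m := (coord0 hq hK).mono 1 one_ne_zero
  have c1m := (coord1 hq hK).mono 1 one_ne_zero
  set v0 := X0 hq hK 1 * Y0 hq hK (-1⁻¹) * X0 hq hK 1
  set v1 := X1 hq hK 1 * Y1 hq hK (-1⁻¹) * X1 hq hK 1
  have hfix0 : ∀ t, h * X0 hq hK t * h⁻¹ = X0 hq hK t ∧ h * Y0 hq hK t * h⁻¹ = Y0 hq hK t := fun t => by
    have e := (dAut_one hq hK (coH hq hK c) t).1 1 (by rw [hv0]; rfl)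
    rw [_root_.inv_one, Units.val_one, one_mul, ← conj_tor, MulAut.conj_apply, MulAut.conj_apply] at e
    exact e
  have hfix1 : ∀ t, h * X1 hq hK t * h⁻¹ = X1 hq hK t ∧ h * Y1 hq hK t * h⁻¹ = Y1 hq hK t := fun t => by
    have e := (dAut_one hq hK (coH hq hK c) t).2 1 (by rw [hv1]; rfl)
    rw [_root_.inv_one, Units.val_one, one_mul, ← conj_tor, MulAut.conj_apply, MulAut.conj_apply] at e
    exact e
  have hcm : ∀ {y : twistedE6 K q}, h * y * h⁻¹ = y → Commute h y := fun e => mul_inv_eq_iff_eq_mul.mp e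
  have hv : Commute h (v0 * v1) :=
    (((hcm (hfix0 _).1).mul_right (hcm (hfix0 _).2)).mul_right (hcm (hfix0 _).1)).mul_right
      (((hcm (hfix1 _).1).mul_right (hcm (hfix1 _).2)).mul_right (hcm (hfix1 _).1))
  set n := nL * (v0 * v1) with hn'
  have hnh : n * h * n⁻¹ ∈ Subgroup.zpowers h := by
    rw [show n * h * n⁻¹ = nL * h * nL⁻¹ by
      rw [hn', show nL * (v0 * v1) * h * (nL * (v0 * v1))⁻¹ = nL * ((v0 * v1) * h * (v0 * v1)⁻¹) * nL⁻¹ by group,
        ← hv.eq, mul_inv_cancel_right]]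
    refine ⟨-(q : ℤ), Subtype.ext ?_⟩
    rw [SubgroupClass.coe_zpow]
    refine Eq.trans ?_ (hL3.2 h (CfsgLib.Chev.chevE6.coHom K c.1) rfl (Tw.tor_mem_H c.1)
      ((CfsgLib.Chev.chevE6.coHom K c.1) ^ (-(q : ℤ))) fun j => ?_).symm
    · show Tw.tor (Φ := CfsgLib.Chev.chevE6) c.1 ^ (-(q : ℤ)) = _
      exact (map_zpow (CfsgLib.Chev.chevE6.toAlg.torus (R := K)) _ _).symm
    · have hst : (tw hq hK).dmap (coH hq hK c).1 = (coH hq hK c).1 := (coH hq hK c).2
      have := congrFun hst j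
      rw [dmap_apply] at this
      rw [Pi.pow_apply, _root_.zpow_neg, _root_.zpow_natCast, _root_.inv_inj]
      exact this
  refine ⟨h * X1 hq hK 1, n * ((Finset.univ : Finset Bool).toList.map fun b => bif b then X3 (1 : K) else X2 1).prod, ?_⟩
  set M := Subgroup.closure ({h * X1 hq hK 1,
    n * ((Finset.univ : Finset Bool).toList.map fun b => bif b then X3 (1 : K) else X2 1).prod} : Set (twistedE6 K q))
  obtain ⟨hhM, hX11⟩ := split_seed hq hK c hv1 (show h * X1 hq hK 1 ∈ M from Subgroup.subset_closure (Or.inl rfl))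
  obtain ⟨p, hp, -, hUp, -⟩ := sylow_facts hq hK
  haveI := Fact.mk hp
  have hl0 : l ≠ 0 := Units.ne_zero _
  have hgen : ∀ r, ∃ P : Polynomial ℤ, Polynomial.aeval l P = r := poly_gen hq hK (by omega) hl0
  have hgen' : ∀ r, ∃ P : Polynomial ℤ, Polynomial.aeval l⁻¹ P = r := poly_gen hq hK
    (by rw [hl, ← Units.val_inv_eq_inv_val, orderOf_units, orderOf_inv, ← orderOf_units, ← hl]; omega) (inv_ne_zero hl0)
  have hne1 : l ≠ 1 := fun e => by rw [e, orderOf_one] at hbig; omega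
  obtain ⟨hn, hfam⟩ := CfsgLib.TwoGenBN.families_mem (p := p) (ι := Bool) (R := fun _ => K)
    (fun b t => bif b then X3 (q := q) t else X2 t)
    (hUp.to_le ((Subgroup.closure_le _).mpr fun y hy => by
      obtain ⟨b, t, rfl⟩ := Set.mem_iUnion.mp hy
      cases b
      · exact Tw.rootP_U (((coord2 hq hK).memX _).mpr ⟨t, rfl⟩)
      · exact Tw.rootP_U (((coord3 hq hK).memX _).mpr ⟨t, rfl⟩)))
    (fun ψ _ b s t => by
      rw [← map_mul]
      refine congrArg ψ (Subtype.ext ?_)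
      cases b
      · exact (coord2 hq hK).addX s t
      · exact (coord3 hq hK).addX s t)
    (fun b => bif b then l⁻¹ else l) (fun b r => by cases b; exacts [hgen r, hgen' r])
    (fun a b hab => by
      cases a <;> cases b
      · exact absurd rfl hab
      · refine (CfsgLib.TwoGenBN.sep_or_hom l⁻¹ l hgen').resolve_right fun ⟨ψ, hψ⟩ =>
          no_inv_hom hq hK hgen hbig ⟨ψ, ?_⟩
        rw [← inv_inv l, map_inv₀, hψ, inv_inv]
      · exact (CfsgLib.TwoGenBN.sep_or_hom l l⁻¹ hgen).resolve_right (no_inv_hom hq hK hgen hbig)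
      · exact absurd rfl hab)
    (fun b => by cases b; exacts [hne1, fun e => hne1 (inv_eq_one.mp e)])
    (fun b t => by
      cases b
      · show _ = X2 (l * t)
        rw [← hv2]; exact (fam_conj hq hK c t).1
      · show _ = X3 (l⁻¹ * t)
        rw [← hv3]; exact (fam_conj hq hK c t).2) hhM (n := n) (Subgroup.subset_closure (Or.inr rfl)) hnh
  let L : List (Fin S.m) := cox ++ cox ++ cox ++ cox ++ cox ++ cox ++ [ox 0, ox 1]
  have hπ : π0 * (S.w (ox 0) * S.w (ox 1)) = (L.map S.w).prod := by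
    simp [π0, L, pow_succ, mul_assoc]
  have hnM : CfsgLib.Chev.chevE6.Mono (n : GL Cfsg.Lie.chevE6.Idx K) (L.map S.w).prod := by
    rw [← hπ, hn', Subgroup.coe_mul, Subgroup.coe_mul]
    exact Mono.mul _ hL2 (Mono.mul _ c0m.2 c1m.2)
  have hnN : (n : GL Cfsg.Lie.chevE6.Idx K) ∈ Cfsg.Lie.chevE6.monomialSubgroup K := by
    rw [hn', Subgroup.coe_mul, Subgroup.coe_mul]
    exact mul_mem hL1 (mul_mem c0m.1 c1m.1)
  have h3 : (L.map S.w).prod ^ 3 = π0 := Equiv.ext fun r => Fin.ext (by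
    rw [π0, ← symOKE6.cycIter_eq cox 6, ← symOKE6.cycIter_eq L 3]
    have : ∀ r : Fin Cfsg.Lie.chevE6.nroots, cycIter symE6
        [0, 1, 2, 3, 0, 1, 2, 3, 0, 1, 2, 3, 0, 1, 2, 3, 0, 1, 2, 3, 0, 1, 2, 3, 0, 1] 3 r.val =
        cycIter symE6 [0, 1, 2, 3] 6 r.val := by decide +kernel
    exact this r)
  obtain ⟨c0, hc0, hX0c⟩ := seed_move hq hK (Tw.mono_pow hnM 2) (pow_mem hn 2) hX11
    (map_PJ L 2 (ox 1) (ox 0) (ix 3) (ix 3) (ix 1) (ix 1) (fun r hr => Or.inl (orb1.hPJ r hr)) orb0.mem orb0.mem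
      (by decide +kernel) (by decide +kernel))
  exact finish hq hK (n := n ^ 3) (by rw [SubmonoidClass.coe_pow]; exact pow_mem hnN 3)
    (h3 ▸ Tw.mono_pow hnM 3) (pow_mem hn 3) (fun t => hfam false t) (fun t => hfam true t) hc0 hX0c one_ne_zero hX11

include hq hK in
theorem two_gen_all : ∃ a b : twistedE6 K q, Subgroup.closure ({a, b} : Set (twistedE6 K q)) = ⊤ := by
  by_cases h : q = 2
  · exact two_gen_small hq hK h
  · exact two_gen_big hq hK h

end CfsgLib.Chev.T2E6
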