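/-
Two generators of ²F₄.
-/
import Cfsg.Agent.Lib.TwoGenBN.Twisted
import Cfsg.Agent.Lib.Chev.Twist.AutF4

namespace CfsgLib.Chev.T2F4

open Cfsg.Lie Matrix Chev

set_option linter.dupNamespace false
set_option linter.unusedSectionVars false
set_option maxRecDepth 100000
set_option maxHeartbeats 1000000

variable {K : Type*} [Field K] [Fintype K] {m : ℕ} (hK : Fintype.card K = 2 ^ (2 * m + 1))

include hK in
theorem two_gen (hm : 1 ≤ m) :
    ∃ a b : twistedF4 K (2 ^ m), Subgroup.closure ({a, b} : Set (twistedF4 K (2 ^ m))) = ⊤ := by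
  classical
  haveI := Fact.mk Nat.prime_two
  haveI := charP_two hK
  obtain ⟨g, hg⟩ := IsCyclic.exists_generator (α := Kˣ)
  obtain ⟨a, ha⟩ := (al_ga_bijective hK).2 (g, 1)
  have hal : al m a = g := congrArg Prod.fst ha
  have hga : ga m a = 1 := congrArg Prod.snd ha
  set h := Th hK a
  obtain ⟨π, hπ, hσ⟩ := (symOKF4.exists_longWord (Φ := CfsgLib.Chev.chevF4) [ox 0, ox 1] 4 id id (fun _ => rfl)
    (by decide +kernel))
  obtain ⟨n, hnN, hnM, hflip, hnc⟩ := (gen hK).exists_long hπ id hσ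
  refine ⟨h * W 1 0, n * X0 hK 1, ?_⟩
  set M := Subgroup.closure ({h * W 1 0, n * X0 hK 1} : Set (twistedF4 K (2 ^ m)))
  have hab : h * W 1 0 ∈ M := Subgroup.subset_closure (Or.inl rfl)
  have hb : n * X0 hK 1 ∈ M := Subgroup.subset_closure (Or.inr rfl)
  have hN : h ^ (Nat.card K - 1) = 1 := by
    refine Subtype.ext ?_
    rw [SubmonoidClass.coe_pow, Subgroup.coe_one]
    show Tw.tor (Φ := CfsgLib.Chev.chevF4) (stab m a) ^ (Nat.card K - 1) = 1
    rw [← map_pow, ← map_pow, show a ^ (Nat.card K - 1) = 1 by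
      rw [Nat.card_eq_fintype_card, ← Fintype.card_units]
      exact Prod.ext pow_card_eq_one pow_card_eq_one, map_one, map_one]
  have hW4 : W (m := m) (1 : K) 0 ^ 4 = 1 := by
    rw [show (4 : ℕ) = 2 * 2 from rfl, pow_mul, pow_two, pow_two, W_sq hK, W_sq hK, zero_mul, W_zero hK]
  have hcop : Nat.Coprime (Nat.card K - 1) 4 := by
    rw [show (4 : ℕ) = 2 ^ 2 from rfl]
    refine Nat.Coprime.pow_right _ (Nat.prime_two.coprime_iff_not_dvd.mpr fun hdvd => ?_).symm
    have h2 : 2 ∣ Nat.card K := by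
      rw [Nat.card_eq_fintype_card, hK]; exact dvd_pow_self _ (by omega)
    have := Nat.dvd_sub h2 hdvd
    rw [Nat.sub_sub_self (Nat.card_pos (α := K)), Nat.dvd_one] at this
    omega
  have hcomm : Commute h (W 1 0) := by
    have := (conj_W hK a 1 0).1
    rw [hga, Units.val_one, one_mul, mul_zero] at this
    exact mul_inv_eq_iff_eq_mul.mp this
  obtain ⟨hhM, hW10⟩ := CfsgLib.TwoGenBN.split_mem hcomm hN hW4 hcop hab
  have hH : ((Th hK a : twistedF4 K (2 ^ m)) : GL Cfsg.Lie.chevF4.Idx K) ∈ Cfsg.Lie.chevF4.diagonalSubgroup K :=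
    Tw.tor_mem_H (stab m a)
  have hnh : n * h * n⁻¹ ∈ Subgroup.zpowers h := by
    rw [show n * h * n⁻¹ = h⁻¹ from Subtype.ext (by
      rw [Subgroup.coe_inv, hnc h (CfsgLib.Chev.chevF4.coHom K (stab m a)) rfl hH
        (CfsgLib.Chev.chevF4.coHom K (stab m a))⁻¹ (fun j => rfl), map_inv]; rfl)]
    exact inv_mem (Subgroup.mem_zpowers h)
  have hUp : IsPGroup 2 ((Cfsg.Lie.chevF4.posUnipotent K).subgroupOf (twistedF4 K (2 ^ m))) :=
    IsPGroup.of_card (n := (2 * m + 1) * 12) (by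
      rw [← Subgroup.inf_subgroupOf_right, Nat.card_congr (Subgroup.subgroupOfEquivOfLe (inf_le_right)).toEquiv,
        card_U hK, pow_mul])
  have hg1 : (g : K) ≠ 1 := fun e => by
    have h1 : ∀ u : Kˣ, u = 1 := fun u => by
      obtain ⟨k, rfl⟩ := Subgroup.mem_zpowers_iff.mp (hg u); rw [Units.ext (u := g) (v := 1) e, _root_.one_zpow]
    have h3 : Nat.card Kˣ = 1 := Nat.card_eq_one_iff_unique.mpr ⟨⟨fun x y => (h1 x).trans (h1 y).symm⟩, ⟨1⟩⟩
    rw [Nat.card_units, Nat.card_eq_fintype_card, hK] at h3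
    have : 2 ^ 3 ≤ 2 ^ (2 * m + 1) := Nat.pow_le_pow_right (by norm_num) (by omega)
    omega
  obtain ⟨hn, hX⟩ := CfsgLib.TwoGenBN.families_mem (p := 2) (ι := Unit) (R := fun _ => K) (fun _ t => X0 hK t)
    (hUp.to_le ((Subgroup.closure_le _).mpr fun y hy => by
      obtain ⟨-, t, rfl⟩ := Set.mem_iUnion.mp hy
      exact Tw.rootP_U (((coord0 hK).memX _).mpr ⟨t, rfl⟩)))
    (fun ψ _ _ s t => by rw [← map_mul]; exact congrArg ψ (Subtype.ext ((coord0 hK).addX s t)))
    (fun _ => (g : K)) (fun _ r => CfsgLib.TwoGenBN.gen_of_units hg r)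
    (fun a b hab => absurd (Subsingleton.elim a b) hab) (fun _ => hg1)
    (fun _ t => by rw [(conj_X0 hK a t).1, hal]) hhM (n := n) (by simpa using hb) hnh
  have hY : ∀ t : K, Y0 hK t ∈ M := fun t => by
    obtain ⟨s, hs⟩ := ((coord0 hK).memX _).mp (Tw.rootP_of_long hπ hnN hnM hflip hσ (a := ox 0)
      (fun i hi => hi) (((coord0 hK).memY (Y0 hK t)).mpr ⟨t, rfl⟩))
    rw [show Y0 hK t = n * X0 hK s * n⁻¹ by rw [← hs]; group]
    exact mul_mem (mul_mem hn (hX () s)) (inv_mem hn)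
  have hT : ∀ b : Kˣ, Th hK (b, 1) ∈ M := fun b => by
    have hmem : Tw.tor (Φ := CfsgLib.Chev.chevF4) (stab m (b, (1 : Kˣ))) ∈ M.map (twistedF4 K (2 ^ m)).subtype :=
      (orb0.facts (T := tw hK) (G1 := M.map (twistedF4 K (2 ^ m)).subtype) fun x y hx _ => by
        rw [(k_p hK).1] at hx
        subst hx
        rw [← sfr_apply hK]
        exact ⟨⟨X0 hK x, hX () x, rfl⟩, ⟨Y0 hK x, hY x, rfl⟩⟩).2.2 _ ((stable_iff hK _).mpr rfl)
        (fun j hj => by
          rw [orb0.hJ] at hj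
          push Not at hj
          revert j
          rw [forall_ix]
          exact ⟨fun h => absurd rfl h.1, fun _ => one_pow _, fun _ => rfl, fun h => absurd rfl h.2⟩)
    obtain ⟨k, hk, e⟩ := hmem
    rw [show Th hK (b, 1) = k from Subtype.ext e.symm]
    exact hk
  have hW0 : ∀ t : K, W (m := m) t 0 ∈ M := fun t => by
    rcases eq_or_ne t 0 with rfl | ht
    · rw [W_zero hK]; exact one_mem _
    · have h1 := mul_mem (mul_mem (hT (Units.mk0 t ht)⁻¹) hW10) (inv_mem (hT (Units.mk0 t ht)⁻¹))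
      rw [(conj_W hK _ 1 0).1, mul_zero, (chr_one_ga _).1, mul_one, Units.val_inv_eq_inv_val, inv_inv,
        Units.val_mk0] at h1
      exact h1
  have hW : ∀ t u : K, W (m := m) t u ∈ M := fun t u => by
    obtain ⟨l, hl⟩ := exists_root_succ hK u
    have e : W (m := m) t u = W t 0 * (W l 0 * W l 0) := by
      rw [W_sq hK, hl, W_mul hK, add_zero, zero_mul, zero_add, zero_add]
    rw [e]
    exact mul_mem (hW0 t) (mul_mem (hW0 l) (hW0 l))
  refine Tw.Gen.top_of_pos twisted_eq (fun g hg => (gens_fix hK hg).2) hπ hnN hnM hflip hn fun a x hx => ?_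
  rcases ox_cases a with rfl | rfl
  · obtain ⟨t, rfl⟩ := ((coord0 hK).memX x).mp hx
    exact hX () t
  · obtain ⟨t, u, rfl⟩ := (W_iff hK x).mp hx
    exact hW t u

end CfsgLib.Chev.T2F4
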