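/-
Two generators of the small Ree groups.
-/
import Cfsg.Agent.Lib.TwoGenBN.Twisted
import Cfsg.Agent.Lib.Chev.Twist.ReeAut

namespace CfsgLib.Chev.T2G2

open Cfsg.Lie Matrix Chev

set_option linter.dupNamespace false
set_option linter.unusedSectionVars false
set_option maxRecDepth 100000

variable {K : Type*} [Field K] [Fintype K] {m : ℕ} (hK : Fintype.card K = 3 ^ (2 * m + 1))

include hK in
theorem sq_eq_theta (x : K) :
    (x ^ (3 * 3 ^ m - 1)) * ((x ^ (3 * 3 ^ m - 1)) ^ 3 ^ m) ^ 3 = x ^ 2 := by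
  set e := 3 ^ m with he
  have h1 : 1 ≤ 3 * e := by have := Nat.one_le_pow m 3 (by norm_num); omega
  have hq : Fintype.card K = 3 * (e * e) := by rw [hK, he, pow_succ, two_mul m, pow_add]; ring
  rw [← pow_mul, ← pow_mul, ← pow_add]
  have hk : (3 * e - 1) + (3 * e - 1) * (e * 3) = 2 + 3 * (Fintype.card K - 1) := by
    have h2 : 1 ≤ Fintype.card K := Fintype.card_pos
    zify [h1, h2]
    rw [hq]
    push_cast
    ring
  rw [hk, pow_add, mul_comm 3, pow_mul]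
  rcases eq_or_ne x 0 with rfl | hx
  · simp
  · rw [FiniteField.pow_card_sub_one_eq_one x hx, one_pow, mul_one]

include hK in
theorem pow_bij_surj (v : K) : ∃ a : K, a ^ 2 * (a ^ 3 ^ m) ^ 3 = v := by
  rcases eq_or_ne v 0 with rfl | hv
  · exact ⟨0, by simp⟩
  refine ⟨((Units.mk0 v hv ^ kk m (rx 6) : Kˣ) : K), ?_⟩
  rw [← pow_mul, ← pow_add, ← Units.val_pow_eq_pow_val, show 2 + 3 ^ m * 3 = 3 * 3 ^ m + 2 by ring,
    (kk6_inv hK _).2, Units.val_mk0]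

include hK in
theorem exists_not_fixed (hm : 1 ≤ m) : ∃ a : K, (a ^ 3 ^ m) ^ 3 - a ≠ 0 := by
  classical
  by_contra hc
  push Not at hc
  have h : ∀ a : K, a ^ (3 * 3 ^ m) = a := fun a => by
    rw [mul_comm, pow_mul]; exact sub_eq_zero.mp (hc a)
  have hlt : 3 * 3 ^ m < 3 ^ (2 * m + 1) := by
    rw [← pow_succ']; exact Nat.pow_lt_pow_right (by norm_num) (by omega)
  have h1 : 1 < 3 * 3 ^ m := by
    have := Nat.one_le_pow m 3 (by norm_num); omega
  have hsub : (Finset.univ : Finset K).val ⊆ (Polynomial.X ^ (3 * 3 ^ m) - Polynomial.X : Polynomial K).roots := by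
    intro a _
    rw [Polynomial.mem_roots (FiniteField.X_pow_card_sub_X_ne_zero K h1)]
    simp [Polynomial.IsRoot, h a]
  have h2 := (Multiset.card_le_card ((Multiset.le_iff_subset Finset.univ.nodup).mpr hsub)).trans
    (Polynomial.card_roots' _)
  rw [FiniteField.X_pow_card_sub_X_natDegree_eq K h1] at h2
  change Fintype.card K ≤ _ at h2
  omega

/-- The torus as a homomorphism. -/
noncomputable def tgHom : Kˣ →* RG K m where
  toFun := tg hK
  map_one' := Subtype.ext th_one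
  map_mul' s t := Subtype.ext (th_mul s t)

/-- The unipotent element as an element of the Sylow subgroup. -/
noncomputable def wu (a e f : K) : ↥(Us K m) := ⟨wg hK a e f, wg_mem hK a e f⟩

theorem wu_mul (a e f a' e' f' : K) : wu hK a e f * wu hK a' e' f' =
    wu hK (a + a') (e + e' + a' * (a ^ 3 ^ m) ^ 3) (f + f' - a' * e + a' ^ 2 * (a ^ 3 ^ m) ^ 3) :=
  Subtype.ext (wg_mul hK a e f a' e' f')

variable {C : Type*} [CommGroup C]

theorem hom_f (ψ : ↥(Us K m) →* C) (hexp : ∀ c : C, c ^ 3 = 1) (v : K) : ψ (wu hK 0 0 v) = 1 := by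
  obtain ⟨a, ha⟩ := pow_bij_surj hK (-v)
  have : wu hK 0 0 v = wu hK a 0 0 ^ 3 := Subtype.ext (by
    rw [SubmonoidClass.coe_pow]
    show wg hK 0 0 v = wg hK a 0 0 ^ 3
    rw [wg_cube, ha, neg_neg])
  rw [this, map_pow]
  exact hexp _

theorem hom_mid (ψ : ↥(Us K m) →* C) (hexp : ∀ c : C, c ^ 3 = 1) (a e f : K) :
    ψ (wu hK a e f) = ψ (wu hK a 0 0) * ψ (wu hK 0 e 0) := by
  rw [← map_mul, wu_mul]
  have h1 : wu hK a e f = wu hK a e 0 * wu hK 0 0 f := by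
    rw [wu_mul]; simp
  rw [h1, map_mul, hom_f hK ψ hexp, mul_one]
  simp

theorem hom_e (hm : 1 ≤ m) (ψ : ↥(Us K m) →* C) (hexp : ∀ c : C, c ^ 3 = 1) (e : K) : ψ (wu hK 0 e 0) = 1 := by
  have hadd : ∀ e e', ψ (wu hK 0 (e + e') 0) = ψ (wu hK 0 e 0) * ψ (wu hK 0 e' 0) := fun e e' => by
    rw [← map_mul, wu_mul]
    simp
  have h00 : ψ (wu hK 0 0 0) = 1 := hom_f hK ψ hexp 0
  have hsym : ∀ a b : K, ψ (wu hK 0 (b * (a ^ 3 ^ m) ^ 3) 0) = ψ (wu hK 0 (a * (b ^ 3 ^ m) ^ 3) 0) := fun a b => by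
    have h1 : ψ (wu hK a 0 0 * wu hK b 0 0) = ψ (wu hK b 0 0 * wu hK a 0 0) := by
      rw [map_mul, map_mul, mul_comm]
    rw [wu_mul, wu_mul, hom_mid hK ψ hexp, hom_mid hK ψ hexp (b + a), add_comm b a] at h1
    simpa using mul_left_cancel h1
  obtain ⟨a0, ha0⟩ := exists_not_fixed hK hm
  set v := (a0 ^ 3 ^ m) ^ 3 - a0 with hv
  have hsq : ∀ y : K, ψ (wu hK 0 (y ^ 2 * v) 0) = 1 := fun y => by
    set z := y ^ (3 * 3 ^ m - 1) with hz
    have h1 := hsym (z * a0) z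
    have h2 := hadd (y ^ 2 * v) (z * a0 * (z ^ 3 ^ m) ^ 3)
    rw [show y ^ 2 * v + z * a0 * (z ^ 3 ^ m) ^ 3 = z * ((z * a0) ^ 3 ^ m) ^ 3 by
      rw [← sq_eq_theta hK y, ← hz, hv, mul_pow, mul_pow]; ring, h1, right_eq_mul] at h2
    exact h2
  have h2 : (2 : K) ≠ 0 := fun e2 => one_ne_zero (α := K) (by linear_combination hc3 hK - e2)
  set y := e / v / 2 with hy
  have h5 : e = (y + 2⁻¹) ^ 2 * v + -((y - 2⁻¹) ^ 2 * v) := by
    rw [hy]
    field_simp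
    ring
  rw [h5, hadd, hsq, one_mul]
  have h6 := hadd ((y - 2⁻¹) ^ 2 * v) (-((y - 2⁻¹) ^ 2 * v))
  rw [add_neg_cancel, hsq, one_mul, h00] at h6
  exact h6.symm

theorem hom_trivial (hm : 1 ≤ m) {g : Kˣ} (hg : ∀ u : Kˣ, u ∈ Subgroup.zpowers g) {s : Kˣ}
    (hsk : s ^ kk m (rx 6) = g) (ψ : ↥(Us K m) →* C) (hexp : ∀ c : C, c ^ 3 = 1)
    (hkill : ∀ (k : ℕ) (y : ↥(Us K m)), (y : RG K m) =
      wg hK 1 0 0 * tg hK s ^ k * (wg hK 1 0 0)⁻¹ * (tg hK s ^ k)⁻¹ → ψ y = 1) (u : ↥(Us K m)) : ψ u = 1 := by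
  have hall : ∀ a e f, ψ (wu hK a e f) = ψ (wu hK a 0 0) := fun a e f => by
    rw [hom_mid hK ψ hexp, hom_e hK hm ψ hexp, mul_one]
  have hfadd : ∀ a b, ψ (wu hK (a + b) 0 0) = ψ (wu hK a 0 0) * ψ (wu hK b 0 0) := fun a b => by
    rw [← map_mul, wu_mul]; exact (hall _ _ _).symm
  let F : K →+ Additive C := AddMonoidHom.mk' (fun a => Additive.ofMul (ψ (wu hK a 0 0))) fun a b => by
    rw [hfadd]; rfl
  have hpow : ∀ k : ℕ, tg hK s ^ k = tg hK (s ^ k) := fun k => ((tgHom hK).map_pow s k).symm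
  have hck : ∀ k : ℕ, F ((g : K) ^ k - 1) = 0 := by
    intro k
    have hconj : tg hK s ^ k * wg hK 1 0 0 * (tg hK s ^ k)⁻¹ = wg hK (((g ^ k : Kˣ) : K)) 0 0 := by
      rw [hpow, tg_wg, mul_one, mul_zero, mul_zero, show (s ^ k) ^ kk m (rx 6) = g ^ k by
        rw [← hsk, ← _root_.zpow_natCast, ← _root_.zpow_natCast, ← _root_.zpow_mul, ← _root_.zpow_mul, mul_comm]]
    have h2 := hkill k (wu hK 1 0 0 * (wu hK (((g ^ k : Kˣ) : K)) 0 0)⁻¹) (by
      show wg hK 1 0 0 * (wg hK (((g ^ k : Kˣ) : K)) 0 0)⁻¹ = _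
      rw [← hconj]
      group)
    rw [map_mul, map_inv, mul_inv_eq_one] at h2
    rw [map_sub, sub_eq_zero, ← Units.val_pow_eq_pow_val]
    exact congrArg Additive.ofMul h2.symm
  have hg1 : (g : K) - 1 ≠ 0 := fun e => by
    have hgg : g = 1 := Units.ext (sub_eq_zero.mp e)
    have h1 : ∀ u : Kˣ, u = 1 := fun u => by
      obtain ⟨k, rfl⟩ := Subgroup.mem_zpowers_iff.mp (hg u); rw [hgg, _root_.one_zpow]
    have h3 : Nat.card Kˣ = 1 := Nat.card_eq_one_iff_unique.mpr ⟨⟨fun x y => (h1 x).trans (h1 y).symm⟩, ⟨1⟩⟩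
    rw [Nat.card_units, Nat.card_eq_fintype_card, hK] at h3
    have : 3 ^ 1 ≤ 3 ^ (2 * m + 1) := Nat.pow_le_pow_right (by norm_num) (by omega)
    omega
  have hF : F = 0 := CfsgLib.TwoGenBN.eq_zero_of_sum (ι := Unit) (R := fun _ => K) (fun _ => (g : K))
    (fun _ r => CfsgLib.TwoGenBN.gen_of_units hg r) (fun a b hab => absurd (Subsingleton.elim a b) hab)
    (fun _ => (g : K) - 1) (fun _ => hg1) (fun _ => F) (fun k => by
      rw [Fintype.sum_unique, show ((g : K) - 1) * (g : K) ^ k = ((g : K) ^ (k + 1) - 1) - ((g : K) ^ k - 1) by ring,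
        map_sub, hck, hck, sub_zero]) ()
  obtain ⟨a, e, f, hu⟩ := (mem_Us_iff hK).mp u.2
  rw [show u = wu hK a e f from Subtype.ext hu, hall]
  exact Additive.ofMul.injective (DFunLike.congr_fun hF a)

include hK in
theorem two_gen (hm : 1 ≤ m) :
    ∃ a b : RG K m, Subgroup.closure ({a, b} : Set (RG K m)) = ⊤ := by
  classical
  haveI := Fact.mk Nat.prime_three
  obtain ⟨g, hg⟩ := IsCyclic.exists_generator (α := Kˣ)
  set s : Kˣ := g ^ (3 * 3 ^ m + 2) with hs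
  have hsk : s ^ kk m (rx 6) = g := (kk6_inv hK g).1
  set h := tg hK s
  set x := wg hK (1 : K) 0 0
  refine ⟨h, n0 hK * x, ?_⟩
  set M := Subgroup.closure ({h, n0 hK * x} : Set (RG K m))
  have hh : h ∈ M := Subgroup.subset_closure (Or.inl rfl)
  have hb : n0 hK * x ∈ M := Subgroup.subset_closure (Or.inr rfl)
  have hz : ∀ t, tg hK t ∈ Subgroup.zpowers h := by
    intro t
    obtain ⟨k, hk⟩ := Subgroup.mem_zpowers_iff.mp (hg (t ^ kk m (rx 6)))
    have e : t = s ^ k := by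
      rw [← (kk6_inv hK t).2, ← hk, hs, ← _root_.zpow_natCast, ← _root_.zpow_natCast, ← _root_.zpow_mul,
        ← _root_.zpow_mul, mul_comm]
    exact ⟨k, by rw [e]; exact ((tgHom hK).map_zpow s k).symm⟩
  obtain ⟨s', hs'⟩ := conj_n0_tg' hK s
  set Ck := {y | ∃ k : ℕ, y = x * h ^ k * x⁻¹ * (h ^ k)⁻¹}
  have hP3 : IsPGroup 3 (Us K m) := IsPGroup.of_card (n := (2 * m + 1) * 3) (by
    rw [Nat.card_congr (Subgroup.subgroupOfEquivOfLe (inf_le_right)).toEquiv, card_U hK, ← pow_mul])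
  have hpow : ∀ k : ℕ, h ^ k = tg hK (s ^ k) := fun k => ((tgHom hK).map_pow s k).symm
  have hS : Us K m ≤ Subgroup.closure Ck := by
    refine CfsgLib.TwoGenBN.le_of_hom hP3 ((Subgroup.closure_le _).mpr ?_) fun N _ hcomm hexp hle => ?_
    · rintro _ ⟨k, rfl⟩
      have h1 : h ^ k * x⁻¹ * (h ^ k)⁻¹ ∈ Us K m := by
        obtain ⟨a, e, f, hx'⟩ := (mem_Us_iff hK).mp (inv_mem (wg_mem hK (1 : K) 0 0))
        rw [hpow, show x⁻¹ = wg hK a e f from hx', tg_wg]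
        exact wg_mem hK _ _ _
      have := mul_mem (wg_mem hK (1 : K) 0 0) h1
      simpa [mul_assoc] using this
    letI : CommGroup (↥(Us K m) ⧸ N) := { (inferInstance : Group (↥(Us K m) ⧸ N)) with mul_comm := hcomm }
    intro u
    rw [← QuotientGroup.eq_one_iff]
    refine hom_trivial hK hm hg (s := s) hsk (QuotientGroup.mk' N) hexp (fun k y hy => ?_) u
    refine (QuotientGroup.eq_one_iff y).mpr (hle ?_)
    exact Subgroup.subset_closure ⟨k, hy⟩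
  obtain ⟨hn, hU⟩ := CfsgLib.TwoGenBN.core hh hb (hs' ▸ hz s') (wg_mem hK _ _ _) hS
  refine Tw.Gen.top_of_pos (twisted_eq) (fun g hg => ⟨o, gens_US o hg⟩) (S.w_mem_W1 o)
    (n := n0 hK) wN_N (wN_mono o) (fun r => ?_) hn fun a y hy => hU (mem_Us.mpr (Tw.rootP_U hy))
  refine CfsgLib.Chev.chevG2.pos_flip (CfsgLib.Chev.chevG2.W_le_WL (S.w_mem_W o)) (fun r hr => ?_) r
  have hr' : S.PJ o r := by rw [PJ_eq]; exact hr
  exact S.w_neg o r hr'.1 hr'.2

end CfsgLib.Chev.T2G2
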